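import Groth.Agent.EGA43.GrFlat.Model

/-!
# EGA IV 11.3.10 (first part): flat associated graded implies flat along `V(J)`
-/

universe u

set_option autoImplicit false
set_option backward.isDefEq.respectTransparency false

open TensorProduct Function

namespace Groth.Agent.EGA43.GrFlat

attribute [local instance] FlatDescent.bcModule

theorem flat_quot_of_flat {A B : Type u} [CommRing A] [CommRing B] [Algebra A B]
    {M : Type u} [AddCommGroup M] [Module B M] [Module A M] [IsScalarTower A B M]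
    (N N' : Submodule B M) (h : N' ≤ N) [Module.Flat A (↥N ⧸ Submodule.comap N.subtype N')]
    [Module.Flat A (M ⧸ N)] : Module.Flat A (M ⧸ N') := by
  let i : (↥N ⧸ Submodule.comap N.subtype N') →ₗ[B] M ⧸ N' :=
    Submodule.mapQ _ N' N.subtype le_rfl
  refine flat_of_exact (i.restrictScalars A) ((Submodule.factor h).restrictScalars A) ?_ ?_
    (Submodule.factor_surjective h)
  · rw [LinearMap.coe_restrictScalars, injective_iff_map_eq_zero]
    intro x hx
    obtain ⟨x, rfl⟩ := Submodule.Quotient.mk_surjective _ x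
    rw [Submodule.mapQ_apply, Submodule.Quotient.mk_eq_zero] at hx
    exact (Submodule.Quotient.mk_eq_zero _).2 hx
  · intro x
    obtain ⟨x, rfl⟩ := Submodule.Quotient.mk_surjective _ x
    refine ⟨fun hx => ?_, ?_⟩
    · exact ⟨Submodule.Quotient.mk ⟨x, (Submodule.Quotient.mk_eq_zero N).1 hx⟩, rfl⟩
    · rintro ⟨y, hy⟩
      obtain ⟨⟨y, hyN⟩, rfl⟩ := Submodule.Quotient.mk_surjective _ y
      rw [← hy]
      exact (Submodule.Quotient.mk_eq_zero N).2 hyN

theorem flat_trunc_of_gr {A B : Type u} [CommRing A] [CommRing B] [Algebra A B] (J : Ideal B)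
    (M : Type u) [AddCommGroup M] [Module B M] [Module A M] [IsScalarTower A B M]
    (hgr : ∀ k : ℕ, Module.Flat A
      (↥(J ^ k • (⊤ : Submodule B M)) ⧸ Submodule.comap (J ^ k • (⊤ : Submodule B M)).subtype (J ^ (k + 1) • ⊤))) :
    ∀ k : ℕ, Module.Flat A (M ⧸ (J ^ k • (⊤ : Submodule B M)))
  | 0 => by
    have : Subsingleton (M ⧸ (J ^ 0 • (⊤ : Submodule B M))) :=
      Submodule.Quotient.subsingleton_iff.2 (by simp)
    infer_instance
  | k + 1 => by
    have := hgr k
    have := flat_trunc_of_gr J M hgr k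
    exact flat_quot_of_flat (J ^ k • ⊤) (J ^ (k + 1) • ⊤)
      (Submodule.smul_mono (Ideal.pow_le_pow_right k.le_succ) le_rfl)

theorem flat_localized_of_gr_flat {A B : Type u} [CommRing A] [CommRing B] [Algebra A B]
    [Algebra.FinitePresentation A B] (J : Ideal B) (hJ : J.FG)
    (M : Type u) [AddCommGroup M] [Module B M] [Module A M] [IsScalarTower A B M] [Module.FinitePresentation B M]
    (hgr : ∀ k : ℕ, Module.Flat A
      (↥(J ^ k • (⊤ : Submodule B M)) ⧸ Submodule.comap (J ^ k • (⊤ : Submodule B M)).subtype (J ^ (k + 1) • ⊤)))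
    (q : Ideal B) [q.IsPrime] (hq : J ≤ q) :
    Module.Flat A (LocalizedModule q.primeCompl M) := by
  obtain ⟨R, _, _, _, P, M', _, _, _, _, _, _, _, _, ψ, e, r, f, hψ, he, hJf⟩ :=
    exists_trunc_model J hJ M (A₀ := A)
  subst hJf
  let fS : ∀ (S : Subalgebra R A), Fin r → S ⊗[R] P := fun S i => 1 ⊗ₜ f i
  obtain ⟨S, hS, hflat⟩ := Filt.exists_stage f M' A fun k => by
    obtain ⟨e₁⟩ := nonempty_trunc_equiv ψ hψ e he f (fun i => ψ (1 ⊗ₜ f i)) (fun i => rfl) k
    have := flat_trunc_of_gr _ M hgr k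
    exact Module.Flat.of_linearEquiv (e₁ ≪≫ₗ Submodule.Quotient.restrictScalarsEquiv A _)
  have := FlatDescent.isNoetherianRing_of_fg hS
  have : Algebra.FiniteType S (S ⊗[R] P) := Algebra.FiniteType.baseChange (A := P) S
  have : IsNoetherianRing (S ⊗[R] P) := Algebra.FiniteType.isNoetherianRing S _
  have : Module.Finite (S ⊗[R] P) (S ⊗[R] M') := FlatDescent.finite_bc R P M' S
  have htr : ∀ k : ℕ, Module.Flat S ((S ⊗[R] M') ⧸ (Filt.J (fS S) ^ k • (⊤ : Submodule (S ⊗[R] P) (S ⊗[R] M')))) := fun k => by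
    obtain ⟨e₁⟩ := nonempty_trunc_equiv (AlgHom.id S (S ⊗[R] P)) surjective_id (LinearEquiv.refl S (S ⊗[R] M'))
      (fun t x => rfl) f (fS S) (fun i => rfl) k
    have := hflat k
    exact Module.Flat.of_linearEquiv ((Submodule.Quotient.restrictScalarsEquiv S _).symm ≪≫ₗ e₁.symm)
  let Q := q.comap ψ.toRingHom
  refine (FlatDescent.flat_localized_iff ψ.toRingHom hψ e he q).1 ?_
  show FlatDescent.FlatAt R P M' A Q
  refine FlatDescent.FlatAt.of_hom S.val ?_
  refine flat_localized_of_flat_trunc (Filt.J (fS S)) (S ⊗[R] M') htr _ ?_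
  rw [Filt.J, Ideal.span_le]
  rintro _ ⟨i, rfl⟩
  show ψ (Algebra.TensorProduct.map S.val (AlgHom.id R P) ((1 : S) ⊗ₜ f i)) ∈ q
  rw [Algebra.TensorProduct.map_tmul, map_one]
  exact hq (Ideal.subset_span ⟨i, rfl⟩)

end Groth.Agent.EGA43.GrFlat
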