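import Groth.Agent.EGA43.GrFlat.Pres
import Groth.Agent.EGA43.FlatDescent.Global
import Mathlib.RingTheory.TensorProduct.MvPolynomial
import Mathlib.RingTheory.Localization.BaseChange
import Mathlib.LinearAlgebra.DirectSum.TensorProduct
import Mathlib.RingTheory.Ideal.MinimalPrime.Basic

/-!
# Openness of the normally flat locus (EGA IV 11.3.14)
-/

universe u

set_option autoImplicit false
set_option backward.isDefEq.respectTransparency false

open TensorProduct Function

namespace Groth.Agent.EGA43.GrFlat.NormFlat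

attribute [local instance] FlatDescent.bcModule

section Model

variable {R A P B M' M : Type u} [CommRing R] [CommRing A] [CommRing P] [CommRing B]
  [Algebra R A] [Algebra R P] [Algebra A B] [AddCommGroup M'] [Module P M'] [Module R M'] [IsScalarTower R P M']
  [AddCommGroup M] [Module B M] [Module A M] [IsScalarTower A B M]

theorem fp_of_model [IsNoetherianRing R] [Algebra.FiniteType R P] [Module.Finite P M'] {r : ℕ} (f : Fin r → P)
    [∀ k, Module.Flat R (Filt.T f M' k)]
    (ψ : A ⊗[R] P →ₐ[A] B) (hψ : Surjective ψ) (e : A ⊗[R] M' ≃ₗ[A] M)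
    (he : ∀ t x, e (t • x) = ψ t • e x) (g : Fin r → B) (hg : ∀ i, ψ (1 ⊗ₜ f i) = g i) :
    Module.FinitePresentation (MvPolynomial (Fin r) B) (Filt.X g M) := by
  let _ : Algebra R B := Algebra.compHom B (algebraMap R A)
  have : IsScalarTower R A B := .of_algebraMap_eq fun _ => rfl
  let _ : Module R M := Module.compHom M (algebraMap R A)
  have : IsScalarTower R A M := IsScalarTower.of_algebraMap_smul fun _ _ => rfl
  have : IsScalarTower R B M := IsScalarTower.of_algebraMap_smul fun c m => by
    rw [IsScalarTower.algebraMap_apply R A B, algebraMap_smul]; rfl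
  let χ : P →+* B := ψ.toRingHom.comp (Algebra.TensorProduct.includeRight (R := R) (A := A)).toRingHom
  let _ : Algebra P B := χ.toAlgebra
  have : IsScalarTower R P B := .of_algebraMap_eq fun c => by
    show algebraMap A B (algebraMap R A c) = ψ ((1 : A) ⊗ₜ algebraMap R P c)
    rw [← ψ.commutes]
    exact congrArg ψ ((IsScalarTower.algebraMap_apply R A (A ⊗[R] P) c).symm.trans
      (AlgHom.commutes (Algebra.TensorProduct.includeRight (R := R) (A := A) (B := P)) c).symm)
  let _ : Module P M := Module.compHom M χ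
  have : IsScalarTower P B M := IsScalarTower.of_algebraMap_smul fun _ _ => rfl
  have : IsScalarTower R P M := IsScalarTower.of_algebraMap_smul fun c m => by
    show χ (algebraMap R P c) • m = c • m
    rw [show χ (algebraMap R P c) = algebraMap R B c from (IsScalarTower.algebraMap_apply R P B c).symm, algebraMap_smul]
  let j : M' →ₗ[P] M :=
    { toFun := fun m => e ((1 : A) ⊗ₜ m)
      map_add' := fun a b => by rw [tmul_add, map_add]
      map_smul' := fun p m => by
        show e ((1 : A) ⊗ₜ (p • m)) = ψ ((1 : A) ⊗ₜ p) • e ((1 : A) ⊗ₜ m)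
        rw [← he, FlatDescent.bc_smul_tmul, one_mul] }
  have hej : ∀ a m, e (a ⊗ₜ m) = algebraMap A B a • j m := fun a m => by
    rw [algebraMap_smul]
    show _ = a • e ((1 : A) ⊗ₜ m)
    rw [← map_smul, TensorProduct.smul_tmul', smul_eq_mul, mul_one]
  refine Pres.finitePresentation_X (R := R) (A := A) f g hg j (fun k => ?_) (fun b => ?_) (fun m => ?_)
  · let Φk : A ⊗[R] Filt.T f M' k →ₗ[R] Filt.T g M k :=
      TensorProduct.lift (LinearMap.mk₂ R (fun a y => algebraMap A B a • Pres.jT f g hg j k y)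
        (fun a b y => by rw [map_add, add_smul])
        (fun c a y => by rw [Algebra.smul_def, map_mul, mul_smul, ← IsScalarTower.algebraMap_apply R A B, algebraMap_smul])
        (fun a x y => by rw [map_add, smul_add])
        (fun c a y => by
          obtain ⟨m, rfl⟩ := Submodule.Quotient.mk_surjective _ y
          show algebraMap A B a • Submodule.Quotient.mk (j (c • m)) = c • (algebraMap A B a • Submodule.Quotient.mk (j m))
          rw [LinearMap.map_smul_of_tower, Submodule.Quotient.mk_smul, smul_comm]))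
    refine ⟨Φk, ?_, fun a y => rfl⟩
    let N := Filt.J f ^ k • (⊤ : Submodule P M')
    have hq : Surjective ((N.mkQ.restrictScalars R).lTensor A) :=
      LinearMap.lTensor_surjective A (g := N.mkQ.restrictScalars R) N.mkQ_surjective
    have key : ∀ w, Φk ((N.mkQ.restrictScalars R).lTensor A w) = Submodule.Quotient.mk (e w) := fun w => by
      induction w using TensorProduct.induction_on with
      | zero => simp
      | add a b ha hb => rw [map_add, map_add, map_add, ha, hb, Submodule.Quotient.mk_add]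
      | tmul a m => rw [hej]; rfl
    rw [injective_iff_map_eq_zero]
    intro z hz
    obtain ⟨w, rfl⟩ := hq z
    rw [key, Submodule.Quotient.mk_eq_zero] at hz
    have hmem : e w ∈ Submodule.map e.toLinearMap
        ((LinearMap.range (InjFibre.bcMap R A N.subtype)).restrictScalars A) := by
      rw [map_range_pow ψ hψ e he f g hg k]; exact hz
    obtain ⟨w', ⟨v, rfl⟩, hw'⟩ := hmem
    rw [← e.injective hw']
    clear hw' hz key
    induction v using TensorProduct.induction_on with
    | zero => rw [map_zero, map_zero]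
    | add a b ha hb => rw [map_add, map_add, ha, hb, add_zero]
    | tmul a x =>
      rw [InjFibre.bcMap_tmul, LinearMap.lTensor_tmul]
      show a ⊗ₜ[R] (Submodule.Quotient.mk (x : M') : M' ⧸ N) = 0
      rw [(Submodule.Quotient.mk_eq_zero N).2 x.2, tmul_zero]
  · obtain ⟨t, rfl⟩ := hψ b
    induction t using TensorProduct.induction_on with
    | zero => rw [map_zero]; exact zero_mem _
    | add a b ha hb => rw [map_add]; exact add_mem ha hb
    | tmul a p =>
      rw [show a ⊗ₜ[R] p = a • ((1 : A) ⊗ₜ[R] p) by rw [TensorProduct.smul_tmul', smul_eq_mul, mul_one], map_smul]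
      exact Submodule.smul_mem _ a (Submodule.subset_span ⟨p, rfl⟩)
  · obtain ⟨t, rfl⟩ := e.surjective m
    induction t using TensorProduct.induction_on with
    | zero => rw [map_zero]; exact zero_mem _
    | add a b ha hb => rw [map_add]; exact add_mem ha hb
    | tmul a p =>
      rw [hej, algebraMap_smul]
      exact Submodule.smul_mem _ a (Submodule.subset_span ⟨p, rfl⟩)

end Model

/-- Flat graded pieces give a finitely presented graded module. -/
theorem fp_of_gr_flat {A B : Type u} [CommRing A] [CommRing B] [Algebra A B]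
    [Algebra.FinitePresentation A B] (J : Ideal B) (hJ : J.FG)
    (M : Type u) [AddCommGroup M] [Module B M] [Module A M] [IsScalarTower A B M] [Module.FinitePresentation B M]
    (hgr : ∀ k : ℕ, Module.Flat A
      (↥(J ^ k • (⊤ : Submodule B M)) ⧸ Submodule.comap (J ^ k • (⊤ : Submodule B M)).subtype (J ^ (k + 1) • ⊤))) :
    ∃ (r : ℕ) (g : Fin r → B), Filt.J g = J ∧ Module.FinitePresentation (MvPolynomial (Fin r) B) (Filt.X g M) := by
  obtain ⟨R, _, _, _, P, M', _, _, _, _, _, _, _, _, ψ, e, r, f, hψ, he, hJf⟩ :=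
    exists_trunc_model J hJ M (A₀ := A)
  refine ⟨r, fun i => ψ (1 ⊗ₜ f i), hJf, ?_⟩
  subst hJf
  obtain ⟨S, hS, hflat⟩ := Filt.exists_stage f M' A fun k => by
    obtain ⟨e₁⟩ := nonempty_trunc_equiv ψ hψ e he f (fun i => ψ (1 ⊗ₜ f i)) (fun i => rfl) k
    have := flat_trunc_of_gr _ M hgr k
    exact Module.Flat.of_linearEquiv (e₁ ≪≫ₗ Submodule.Quotient.restrictScalarsEquiv A _)
  have := FlatDescent.isNoetherianRing_of_fg hS
  have : Algebra.FiniteType S (S ⊗[R] P) := Algebra.FiniteType.baseChange (A := P) S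
  have : Module.Finite (S ⊗[R] P) (S ⊗[R] M') := FlatDescent.finite_bc R P M' S
  let fS : Fin r → S ⊗[R] P := fun i => 1 ⊗ₜ f i
  have htr : ∀ k : ℕ, Module.Flat S (Filt.T fS (S ⊗[R] M') k) := fun k => by
    obtain ⟨e₁⟩ := nonempty_trunc_equiv (AlgHom.id S (S ⊗[R] P)) surjective_id (LinearEquiv.refl S (S ⊗[R] M'))
      (fun t x => rfl) f fS (fun i => rfl) k
    have := hflat k
    exact Module.Flat.of_linearEquiv ((Submodule.Quotient.restrictScalarsEquiv S _).symm ≪≫ₗ e₁.symm)
  let φ := Algebra.TensorProduct.cancelBaseChange R S A A P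
  refine fp_of_model (R := S) fS (ψ.comp φ.toAlgHom) (hψ.comp φ.surjective)
    (AlgebraTensorModule.cancelBaseChange R S A A M' ≪≫ₗ e)
    (fun t x => (congrArg e (cancel_smul R S A P M' t x)).trans (he _ _)) _ fun i => ?_
  show ψ (φ ((1 : A) ⊗ₜ[S] ((1 : S) ⊗ₜ[R] f i))) = ψ ((1 : A) ⊗ₜ[R] f i)
  rw [show φ ((1 : A) ⊗ₜ[S] ((1 : S) ⊗ₜ[R] f i)) = (1 : A) ⊗ₜ[R] f i by simp [φ]]

section Topology

variable {R C N : Type u} [CommRing R] [CommRing C] [Algebra R C] [AddCommGroup N] [Module R N] [Module C N]
  [IsScalarTower R C N]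

/-- Flatness of a localisation at a prime of the base is tested on the primes above. -/
theorem flat_localized_base_iff (p : Ideal R) [p.IsPrime] :
    Module.Flat R (LocalizedModule p.primeCompl N) ↔
      ∀ (P : Ideal C) [P.IsPrime], P.comap (algebraMap R C) ≤ p →
        Module.Flat R (LocalizedModule P.primeCompl N) := by
  constructor
  · intro h P _ hP
    rw [Module.Flat.iff_rTensor_injective']
    intro I
    refine FlatOpen.rTensor_injective_localized I.subtype _ fun z hz => ?_
    obtain ⟨t, ht, htz⟩ := FlatOpen.exists_smul_eq_zero_of_flat (S := R) I.subtype I.injective_subtype p.primeCompl z hz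
    exact ⟨algebraMap R C t, fun h' => ht (hP h'), by rw [algebraMap_smul]; exact htz⟩
  · intro h
    rw [Module.Flat.iff_rTensor_injective']
    intro I
    refine FlatOpen.rTensor_injective_localized (S := R) I.subtype _ fun z hz => ?_
    by_contra! hne
    obtain ⟨P, hP, hle, hdisj⟩ := Ideal.exists_le_prime_disjoint
      (LinearMap.toSpanSingleton C _ z).ker (p.primeCompl.map (algebraMap R C)) (Set.disjoint_left.2 <| by
        rintro _ hc ⟨t, ht, rfl⟩
        exact hne t ht (by
          have := LinearMap.mem_ker.1 hc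
          rwa [LinearMap.toSpanSingleton_apply, algebraMap_smul] at this))
    have hPp : P.comap (algebraMap R C) ≤ p := fun t ht => by
      by_contra hnt
      exact Set.disjoint_left.1 hdisj ht ⟨t, hnt, rfl⟩
    have := h P hPp
    obtain ⟨t, ht, htz⟩ := FlatOpen.exists_smul_eq_zero_of_flat (S := C) I.subtype I.injective_subtype P.primeCompl z hz
    exact ht (hle (LinearMap.mem_ker.2 (by rwa [LinearMap.toSpanSingleton_apply])))

theorem isOpen_setOf_flat_base [Algebra.FinitePresentation R C] [Module.FinitePresentation C N] :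
    IsOpen {p : PrimeSpectrum R | Module.Flat R (LocalizedModule p.asIdeal.primeCompl N)} := by
  have hopen := FlatDescent.isOpen_setOf_flat (A := R) (S := C) (N := N)
  obtain ⟨I, hI⟩ := (PrimeSpectrum.isClosed_iff_zeroLocus_ideal _).1 hopen.isClosed_compl
  rw [← isClosed_compl_iff]
  convert PrimeSpectrum.isClosed_zeroLocus (I.comap (algebraMap R C) : Set R) using 1
  ext p
  simp only [Set.mem_compl_iff, Set.mem_setOf_eq, PrimeSpectrum.mem_zeroLocus, SetLike.coe_subset_coe]
  rw [flat_localized_base_iff (C := C)]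
  constructor
  · intro h
    simp only [not_forall] at h
    obtain ⟨P, hP, hPp, hPflat⟩ := h
    have hmem : (⟨P, hP⟩ : PrimeSpectrum C) ∈ PrimeSpectrum.zeroLocus (I : Set C) := hI ▸ hPflat
    exact (Ideal.comap_mono (PrimeSpectrum.mem_zeroLocus _ _ |>.1 hmem)).trans hPp
  · intro hp hall
    obtain ⟨m, hm, hmp⟩ := Ideal.exists_minimalPrimes_le (hp : I.comap (algebraMap R C) ≤ p.asIdeal)
    obtain ⟨P, hP, hPI, hPm⟩ := Ideal.exists_comap_eq_of_mem_minimalPrimes (algebraMap R C) m hm
    have hmem : (⟨P, hP⟩ : PrimeSpectrum C) ∈ PrimeSpectrum.zeroLocus (I : Set C) :=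
      (PrimeSpectrum.mem_zeroLocus _ _).2 hPI
    rw [← hI] at hmem
    exact hmem (hall P (hPm.le.trans hmp))

end Topology

section Pieces

variable {B : Type u} [CommRing B] {T : ℕ → Type u} [∀ k, AddCommGroup (T k)] [∀ k, Module B (T k)]
  {E : Type u} [AddCommGroup E] [Module B E] {p : ∀ k, T (k + 1) →ₗ[B] T k} {c : ∀ k, E →ₗ[B] T (k + 1)}
  {s : ∀ k, T (k + 1) →ₗ[B] E}

theorem flat_tensor_gr_iff (Dc : Decomp c s) (R : Type u) [CommRing R] [Algebra B R] (D : Type u) [AddCommGroup D]
    [Module B D] [Module R D] [IsScalarTower B R D] :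
    Module.Flat R (D ⊗[B] gr p c) ↔ ∀ k, Module.Flat R (D ⊗[B] LinearMap.ker (p k)) := by
  classical
  constructor
  · intro h k
    refine Module.Flat.of_retract (AlgebraTensorModule.lTensor R D (incl p Dc k))
      (AlgebraTensorModule.lTensor R D (proj p k)) ?_
    rw [← AlgebraTensorModule.lTensor_comp, proj_incl p Dc k, AlgebraTensorModule.lTensor_id]
  · intro h
    let Φ : (DirectSum ℕ fun k => LinearMap.ker (p k)) →ₗ[B] gr p c := DirectSum.toModule B ℕ _ (incl p Dc)
    have hΦ : ∀ k x, proj p k (Φ x) = x k := fun k x => by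
      induction x using DirectSum.induction_on with
      | zero => simp
      | of l y =>
        rw [← DirectSum.lof_eq_of B, DirectSum.toModule_lof]
        by_cases h : k = l
        · subst h; rw [DirectSum.lof_apply]; exact LinearMap.congr_fun (proj_incl p Dc k) y
        · rw [DirectSum.lof_eq_of, DirectSum.of_eq_of_ne _ _ _ h]
          exact LinearMap.congr_fun (proj_incl_ne p Dc h) y
      | add a b ha hb => rw [map_add, map_add, ha, hb]; rfl
    let eΦ : (DirectSum ℕ fun k => LinearMap.ker (p k)) ≃ₗ[B] gr p c :=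
      LinearEquiv.ofBijective Φ ⟨fun a b hab => DFinsupp.ext fun k =>
        (hΦ k a).symm.trans ((congrArg (proj p k) hab).trans (hΦ k b)), fun x => by
        obtain ⟨F, hF⟩ := exists_sum p Dc x
        refine ⟨∑ k ∈ F, DirectSum.lof B ℕ _ k (proj p k x), ?_⟩
        rw [map_sum]
        exact (Finset.sum_congr rfl fun k _ => DirectSum.toModule_lof B k _).trans hF.symm⟩
    exact Module.Flat.of_linearEquiv ((AlgebraTensorModule.congr (LinearEquiv.refl R D) eΦ.symm) ≪≫ₗ
      TensorProduct.directSumRight B R D fun k => LinearMap.ker (p k))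

end Pieces

/-- The pieces of the filtration are the kernels of the transition maps. -/
theorem nonempty_piece_equiv {B : Type u} [CommRing B] {r : ℕ} (g : Fin r → B) (M : Type u) [AddCommGroup M]
    [Module B M] (k : ℕ) :
    Nonempty ((↥(Filt.J g ^ k • (⊤ : Submodule B M)) ⧸
      Submodule.comap (Filt.J g ^ k • (⊤ : Submodule B M)).subtype (Filt.J g ^ (k + 1) • ⊤)) ≃ₗ[B]
      LinearMap.ker (pR (R := B) (Filt.p g M) k)) := by
  let i : (↥(Filt.J g ^ k • (⊤ : Submodule B M)) ⧸
      Submodule.comap (Filt.J g ^ k • (⊤ : Submodule B M)).subtype (Filt.J g ^ (k + 1) • ⊤)) →ₗ[B] Filt.T g M (k + 1) :=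
    Submodule.mapQ _ _ (Filt.J g ^ k • (⊤ : Submodule B M)).subtype le_rfl
  have hinj : Injective i := by
    rw [injective_iff_map_eq_zero]
    intro x hx
    obtain ⟨x, rfl⟩ := Submodule.Quotient.mk_surjective _ x
    rw [Submodule.mapQ_apply, Submodule.Quotient.mk_eq_zero] at hx
    exact (Submodule.Quotient.mk_eq_zero _).2 hx
  refine ⟨LinearEquiv.ofInjective i hinj ≪≫ₗ LinearEquiv.ofEq _ _ (le_antisymm ?_ fun x hx => ?_)⟩
  · rintro _ ⟨y, rfl⟩
    obtain ⟨⟨y, hy⟩, rfl⟩ := Submodule.Quotient.mk_surjective _ y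
    exact LinearMap.mem_ker.2 ((Submodule.Quotient.mk_eq_zero _).2 hy)
  · obtain ⟨x, rfl⟩ := Submodule.Quotient.mk_surjective _ x
    exact ⟨Submodule.Quotient.mk ⟨x, (Submodule.Quotient.mk_eq_zero _).1 (LinearMap.mem_ker.1 hx)⟩, rfl⟩

attribute [local instance] MvPolynomial.algebraMvPolynomial in
theorem isOpen_normallyFlat_aux {B : Type u} [CommRing B] {r : ℕ} (g : Fin r → B) (M : Type u) [AddCommGroup M]
    [Module B M] [Module.FinitePresentation (MvPolynomial (Fin r) B) (Filt.X g M)] :
    IsOpen {q : PrimeSpectrum B | Filt.J g ≤ q.asIdeal → ∀ k : ℕ,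
      Module.Flat (B ⧸ Filt.J g) ((B ⧸ Filt.J g) ⊗[B] LocalizedModule q.asIdeal.primeCompl
        (↥(Filt.J g ^ k • (⊤ : Submodule B M)) ⧸
          Submodule.comap (Filt.J g ^ k • (⊤ : Submodule B M)).subtype (Filt.J g ^ (k + 1) • ⊤)))} := by
  let R := B ⧸ Filt.J g
  let N := MvPolynomial (Fin r) R ⊗[MvPolynomial (Fin r) B] Filt.X g M
  have hopen := isOpen_setOf_flat_base (R := R) (C := MvPolynomial (Fin r) R) (N := N)
  have hpt : ∀ (P : PrimeSpectrum R),
      Module.Flat R (LocalizedModule P.asIdeal.primeCompl N) ↔ ∀ k : ℕ,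
        Module.Flat R (R ⊗[B] LocalizedModule (P.asIdeal.comap (Ideal.Quotient.mk (Filt.J g))).primeCompl
          (↥(Filt.J g ^ k • (⊤ : Submodule B M)) ⧸
            Submodule.comap (Filt.J g ^ k • (⊤ : Submodule B M)).subtype (Filt.J g ^ (k + 1) • ⊤))) := fun P => by
    let q := P.asIdeal.comap (Ideal.Quotient.mk (Filt.J g))
    let D := Localization.AtPrime P.asIdeal
    have hmon : Algebra.algebraMapSubmonoid R q.primeCompl = P.asIdeal.primeCompl := by
      refine le_antisymm ?_ fun x hx => ?_
      · rintro _ ⟨b, hb, rfl⟩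
        exact hb
      · obtain ⟨b, rfl⟩ := Ideal.Quotient.mk_surjective x
        exact ⟨b, hx, rfl⟩
    have : IsLocalization (Algebra.algebraMapSubmonoid R q.primeCompl) D := by
      rw [hmon]
      exact Localization.isLocalization
    let eD : R ⊗[B] Localization q.primeCompl ≃ₗ[R] D :=
      (IsLocalization.algEquiv (Algebra.algebraMapSubmonoid R q.primeCompl) (R ⊗[B] Localization q.primeCompl) D).toLinearEquiv
    have hL : ∀ (L : Type u) [AddCommGroup L] [Module B L],
        Nonempty (R ⊗[B] LocalizedModule q.primeCompl L ≃ₗ[R] D ⊗[B] L) := fun L _ _ =>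
      ⟨AlgebraTensorModule.congr (LinearEquiv.refl R R)
          ((LocalizedModule.equivTensorProduct q.primeCompl L).restrictScalars B) ≪≫ₗ
        (AlgebraTensorModule.assoc B B R R (Localization q.primeCompl) L).symm ≪≫ₗ
        AlgebraTensorModule.congr eD (LinearEquiv.refl B L)⟩
    have h := Filt.sys (R := B) g M
    let eN : LocalizedModule P.asIdeal.primeCompl N ≃ₗ[R] D ⊗[B] gr (pR (R := B) (Filt.p g M)) fun k => (Filt.c g M k).restrictScalars B :=
      (LocalizedModule.equivTensorProduct P.asIdeal.primeCompl N).restrictScalars R ≪≫ₗ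
        AlgebraTensorModule.congr (LinearEquiv.refl R D)
          (Algebra.IsPushout.cancelBaseChange B R (MvPolynomial (Fin r) B) (MvPolynomial (Fin r) R) (Filt.X g M)) ≪≫ₗ
        AlgebraTensorModule.cancelBaseChange B R R D (Filt.X g M) ≪≫ₗ
        AlgebraTensorModule.congr (LinearEquiv.refl R D) h.equivGr
    rw [Module.Flat.equiv_iff eN, flat_tensor_gr_iff h.decomp R D]
    refine forall_congr' fun k => ?_
    obtain ⟨ek⟩ := nonempty_piece_equiv g M k
    obtain ⟨eL⟩ := hL (↥(Filt.J g ^ k • (⊤ : Submodule B M)) ⧸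
      Submodule.comap (Filt.J g ^ k • (⊤ : Submodule B M)).subtype (Filt.J g ^ (k + 1) • ⊤))
    exact Module.Flat.equiv_iff ((AlgebraTensorModule.congr (LinearEquiv.refl R D) ek.symm) ≪≫ₗ eL.symm)
  rw [← isClosed_compl_iff]
  convert (PrimeSpectrum.isClosedEmbedding_comap_of_surjective R (Ideal.Quotient.mk (Filt.J g))
    Ideal.Quotient.mk_surjective).isClosedMap _ hopen.isClosed_compl using 1
  ext q
  constructor
  · intro hq
    simp only [Set.mem_compl_iff, Set.mem_setOf_eq, Classical.not_imp] at hq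
    obtain ⟨hJq, hk⟩ := hq
    have hrange : q ∈ Set.range (PrimeSpectrum.comap (Ideal.Quotient.mk (Filt.J g))) := by
      rw [range_comap_of_surjective _ _ Ideal.Quotient.mk_surjective, Ideal.mk_ker]
      exact hJq
    obtain ⟨P, rfl⟩ := hrange
    exact ⟨P, fun hP => hk ((hpt P).1 hP), rfl⟩
  · rintro ⟨P, hP, rfl⟩ hq
    refine hP ((hpt P).2 (hq ?_))
    intro x hx
    show Ideal.Quotient.mk (Filt.J g) x ∈ P.asIdeal
    rw [Ideal.Quotient.eq_zero_iff_mem.2 hx]
    exact zero_mem _

theorem isOpen_normallyFlat {A B : Type u} [CommRing A] [CommRing B] [Algebra A B]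
    [Algebra.FinitePresentation A B] (J : Ideal B) (hJ : J.FG)
    (M : Type u) [AddCommGroup M] [Module B M] [Module A M] [IsScalarTower A B M] [Module.FinitePresentation B M]
    (hgrM : ∀ k : ℕ, Module.Flat A
      (↥(J ^ k • (⊤ : Submodule B M)) ⧸ Submodule.comap (J ^ k • (⊤ : Submodule B M)).subtype (J ^ (k + 1) • ⊤))) :
    IsOpen {q : PrimeSpectrum B | J ≤ q.asIdeal → ∀ k : ℕ,
      Module.Flat (B ⧸ J) ((B ⧸ J) ⊗[B] LocalizedModule q.asIdeal.primeCompl
        (↥(J ^ k • (⊤ : Submodule B M)) ⧸ Submodule.comap (J ^ k • (⊤ : Submodule B M)).subtype (J ^ (k + 1) • ⊤)))} := by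
  obtain ⟨r, g, rfl, hfp⟩ := fp_of_gr_flat J hJ M hgrM
  exact isOpen_normallyFlat_aux g M

end Groth.Agent.EGA43.GrFlat.NormFlat
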