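import Groth.Agent.EGA43.GrFlat.Fibre
import Groth.Agent.EGA43.FlatDescent.Main

/-!
# A finitely generated stage where all pieces are flat (EGA IV 11.2.9)
-/

universe u

set_option autoImplicit false
set_option backward.isDefEq.respectTransparency false

open TensorProduct Function

namespace Groth.Agent.EGA43.GrFlat

attribute [local instance] FlatDescent.bcModule

/-- The kernel of a surjection between flat modules is flat. -/
theorem flat_ker {R M N : Type u} [CommRing R] [AddCommGroup M] [Module R M] [AddCommGroup N] [Module R N]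
    (f : M →ₗ[R] N) (hf : Surjective f) [Module.Flat R M] [Module.Flat R N] :
    Module.Flat R (LinearMap.ker f) := by
  rw [Module.Flat.iff_lTensor_preserves_injective_linearMap]
  intro V W _ _ _ _ i hi
  have hinj : Injective ((LinearMap.ker f).subtype.rTensor V) := by
    have h4 : (LinearMap.ker f).subtype.rTensor V = (TensorProduct.comm R V M).toLinearMap ∘ₗ
        (LinearMap.ker f).subtype.lTensor V ∘ₗ (TensorProduct.comm R (LinearMap.ker f) V).toLinearMap :=
      TensorProduct.ext' fun a b => rfl
    rw [h4, LinearMap.coe_comp, LinearMap.coe_comp]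
    exact (TensorProduct.comm R V M).injective.comp
      ((lTensor_ker_injective f hf V).comp (TensorProduct.comm R _ V).injective)
  rw [injective_iff_map_eq_zero]
  intro z hz
  refine (injective_iff_map_eq_zero _).1 hinj z
    ((injective_iff_map_eq_zero _).1 (Module.Flat.lTensor_preserves_injective_linearMap (M := M) i hi) _ ?_)
  rw [← LinearMap.comp_apply, LinearMap.lTensor_comp_rTensor, ← LinearMap.rTensor_comp_lTensor,
    LinearMap.comp_apply, hz, map_zero]

/-- A map with flat image that is injective on every fibre is injective. -/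
theorem injective_of_fibres {R B : Type u} [CommRing R] [CommRing B] [Algebra R B] [IsNoetherianRing B]
    {M' M : Type u} [AddCommGroup M'] [Module R M'] [Module B M'] [IsScalarTower R B M'] [Module.Finite B M']
    [AddCommGroup M] [Module R M] [Module B M] [IsScalarTower R B M] (u : M' →ₗ[B] M)
    [Module.Flat R (LinearMap.range u)]
    (hfib : ∀ (K : Type u) [Field K] [Algebra R K], Injective ((u.restrictScalars R).lTensor K)) :
    Injective u := by
  rw [← LinearMap.ker_eq_bot, eq_bot_iff]
  intro n hn
  by_contra hne
  obtain ⟨Q, hQ, hle⟩ := Ideal.exists_le_maximal (Module.annihilator B (LinearMap.ker u)) fun htop => hne (by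
    have := Module.mem_annihilator.1 (htop ▸ trivial : (1 : B) ∈ Module.annihilator B (LinearMap.ker u)) ⟨n, hn⟩
    simpa using congrArg Subtype.val this)
  let _ : Field (B ⧸ Q) := Ideal.Quotient.field Q
  have hK : ∀ z : (B ⧸ Q) ⊗[R] LinearMap.ker u, z = 0 := fun z => by
    let f := (u.rangeRestrict).restrictScalars R
    let ι : LinearMap.ker u →ₗ[R] M' := (LinearMap.ker u).subtype.restrictScalars R
    have h1 := LinearMap.lTensor_injective_of_exact_of_flat f (LinearMap.surjective_rangeRestrict u) ι
      (LinearMap.ker u).injective_subtype (fun x => ⟨fun hx => ⟨⟨x, congrArg Subtype.val hx⟩, rfl⟩,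
        fun ⟨y, hy⟩ => hy ▸ Subtype.ext y.2⟩) (B ⧸ Q)
    refine (injective_iff_map_eq_zero _).1 h1 z ((injective_iff_map_eq_zero _).1 (hfib (B ⧸ Q)) _ ?_)
    rw [← LinearMap.lTensor_comp_apply, show u.restrictScalars R ∘ₗ ι = 0 from LinearMap.ext fun y => y.2,
      LinearMap.lTensor_zero, LinearMap.zero_apply]
  have hQN : (⊤ : Submodule B (LinearMap.ker u)) ≤ Q • ⊤ := fun x _ => by
    let g : (B ⧸ Q) ⊗[R] LinearMap.ker u →ₗ[R] LinearMap.ker u ⧸ (Q • ⊤ : Submodule B (LinearMap.ker u)) :=
      TensorProduct.lift (LinearMap.mk₂ R (fun c y => c • Submodule.Quotient.mk y)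
        (fun c d y => add_smul c d _) (fun r c y => smul_assoc r c _)
        (fun c y y' => by rw [Submodule.Quotient.mk_add, smul_add])
        (fun r c y => by rw [Submodule.Quotient.mk_smul, smul_comm]))
    have := congrArg g (hK ((1 : B ⧸ Q) ⊗ₜ x))
    rw [map_zero] at this
    exact (Submodule.Quotient.mk_eq_zero _).1 (by simpa [g] using this)
  obtain ⟨r, hr, hr'⟩ := Submodule.exists_sub_one_mem_and_smul_eq_zero_of_fg_of_le_smul Q ⊤
    Module.Finite.fg_top hQN
  exact hQ.ne_top ((Ideal.eq_top_iff_one Q).2
    (by simpa using Q.sub_mem (hle (Module.mem_annihilator.2 fun y => hr' y trivial)) hr))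

variable {R : Type u} [CommRing R] {B C : Type u} [CommRing B] [CommRing C] [Algebra R B] [Algebra R C]
  {T : ℕ → Type u} [∀ k, AddCommGroup (T k)] [∀ k, Module R (T k)] [∀ k, Module B (T k)]
  [∀ k, IsScalarTower R B (T k)]
  {E : Type u} [AddCommGroup E] [Module R E] [Module C E] [IsScalarTower R C E]
  {p : ∀ k, T (k + 1) →ₗ[B] T k} {c : ∀ k, E →ₗ[R] T (k + 1)}
  {s : ∀ k, T (k + 1) →ₗ[R] E} {X : Submodule C E} (h : Sys p c s X)

/-- The fibres over a good stage. -/
theorem injective_fibre_of_goodAt (S : Type u) [CommRing S] [Algebra R S]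
    (hS : ∀ (K : Type u) [Field K] [Algebra R K] [Algebra S K] [IsScalarTower R S K], GoodAt h S K)
    (K : Type u) [Field K] [Algebra S K] : Injective ((grBC p c S).subtype.lTensor K) := by
  let _ : Algebra R K := ((algebraMap S K).comp (algebraMap R S)).toAlgebra
  have : IsScalarTower R S K := .of_algebraMap_eq fun _ => rfl
  let eE := AlgebraTensorModule.cancelBaseChange R S K K E
  have hnat : ∀ w, eE ((grBC p c S).subtype.lTensor K (sigma h S K w)) = (incR (R := R) X).lTensor K w := fun w => by
    induction w using TensorProduct.induction_on with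
    | zero => simp
    | add a b ha hb => simp only [map_add, ha, hb]
    | tmul a x => simp [sigma_tmul, eE, coe_piS]
  rw [injective_iff_map_eq_zero]
  intro z hz
  obtain ⟨w, rfl⟩ := sigma_surjective h S K z
  exact hS K w (by rw [← hnat, hz, map_zero])

section Good

variable [IsNoetherianRing R] [Algebra.FiniteType R B] [Algebra.FiniteType R C] [Module.Finite C X]
  [∀ k, Module.Finite B (T k)] [Subsingleton (T 0)]
  {A : Type u} [CommRing A] [Algebra R A] [∀ k, Module.Flat A (A ⊗[R] T k)]
  (hgood : ∀ (K : Type u) [Field K] [Algebra R K], Injective ((gr (pR (R := R) p) c).subtype.lTensor K))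

omit [∀ k, Module B (T k)] [∀ k, IsScalarTower R B (T k)] [∀ k, Module.Finite B (T k)] in
theorem flat_of_le {M : Type u} [AddCommGroup M] [Module R M] {S S' : Subalgebra R A} (hle : S ≤ S')
    [Module.Flat S (S ⊗[R] M)] : Module.Flat S' (S' ⊗[R] M) := by
  let _ : Algebra S S' := (Subalgebra.inclusion hle).toAlgebra
  have : IsScalarTower R S S' := .of_algebraMap_eq fun _ => rfl
  exact Module.Flat.of_linearEquiv (AlgebraTensorModule.cancelBaseChange R S S' S' M).symm

include h hgood in
/-- Part (B): each component stays injective over `A`. -/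
theorem injective_component (k : ℕ) : Injective ((LinearMap.ker (pR (R := R) p k)).subtype.lTensor A) := by
  obtain ⟨S₁, hS₁, h₁⟩ := FlatDescent.exists_stage_flat (R := R) B (M := T k) (A := A)
  obtain ⟨S₂, hS₂, h₂⟩ := FlatDescent.exists_stage_flat (R := R) B (M := T (k + 1)) (A := A)
  let S := S₁ ⊔ S₂
  have := flat_of_le (M := T k) (le_sup_left : S₁ ≤ S)
  have := flat_of_le (M := T (k + 1)) (le_sup_right : S₂ ≤ S)
  have := FlatDescent.isNoetherianRing_of_fg (hS₁.sup hS₂ : S.FG)
  have hBfin : Algebra.FiniteType S (S ⊗[R] B) := Algebra.FiniteType.baseChange (A := B) S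
  have := Algebra.FiniteType.isNoetherianRing S (S ⊗[R] B)
  have : IsNoetherianRing B := Algebra.FiniteType.isNoetherianRing R B
  let N := LinearMap.ker (p k)
  have : Module.Finite (S ⊗[R] B) (S ⊗[R] N) := FlatDescent.finite_bc R B N S
  let u : S ⊗[R] N →ₗ[S ⊗[R] B] S ⊗[R] T (k + 1) := InjFibre.bcMap R S N.subtype
  have hrange : (LinearMap.range u).restrictScalars S = LinearMap.ker ((pR (R := R) p k).baseChange S) := by
    have hex : Exact ((LinearMap.ker (pR (R := R) p k)).subtype.lTensor S) ((pR (R := R) p k).lTensor S) :=
      lTensor_exact (M := ↥(LinearMap.ker (pR (R := R) p k))) S (LinearMap.exact_subtype_ker_map _) (h.surj k)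
    ext z
    refine ⟨?_, fun hz => ?_⟩
    · rintro ⟨w, rfl⟩
      rw [LinearMap.mem_ker]
      induction w using TensorProduct.induction_on with
      | zero => simp
      | add a b ha hb => rw [map_add, map_add, ha, hb, add_zero]
      | tmul a y => simp [u, LinearMap.mem_ker.1 y.2]
    · obtain ⟨w, rfl⟩ := (hex z).1 hz
      clear hz
      induction w using TensorProduct.induction_on with
      | zero => simp
      | add a b ha hb => rw [map_add]; exact add_mem ha hb
      | tmul a y => exact ⟨a ⊗ₜ ⟨y.1, y.2⟩, rfl⟩
  have hk := flat_ker ((pR (R := R) p k).baseChange S) (LinearMap.lTensor_surjective S (h.surj k))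
  have : Module.Flat S (LinearMap.range u) :=
    Module.Flat.of_linearEquiv (((LinearMap.range u).restrictScalarsEquiv S).symm.restrictScalars S ≪≫ₗ
      LinearEquiv.ofEq _ _ hrange)
  -- the fibres
  have hfib : ∀ (K : Type u) [Field K] [Algebra S K], Injective ((u.restrictScalars S).lTensor K) := by
    intro K _ _
    let _ : Algebra R K := ((algebraMap S K).comp (algebraMap R S)).toAlgebra
    have : IsScalarTower R S K := .of_algebraMap_eq fun _ => rfl
    let eN := AlgebraTensorModule.cancelBaseChange R S K K N
    let eT := AlgebraTensorModule.cancelBaseChange R S K K (T (k + 1))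
    let j : N →ₗ[R] gr (pR (R := R) p) c :=
      incl (pR (R := R) p) h.decomp k ∘ₗ LinearMap.codRestrict _ (N.subtype.restrictScalars R) fun y => y.2
    have hj : Injective (j.lTensor K) := by
      let r : gr (pR (R := R) p) c →ₗ[R] N :=
        LinearMap.codRestrict (N.restrictScalars R) (c k ∘ₗ (gr (pR (R := R) p) c).subtype) fun x =>
          LinearMap.mem_ker.2 ((mem_gr _ _).1 x.2 k)
      have hrj : r ∘ₗ j = LinearMap.id := LinearMap.ext fun y => Subtype.ext (h.decomp.self k y.1)
      refine fun a b hab => ?_
      have := congrArg (r.lTensor K) hab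
      rwa [← LinearMap.lTensor_comp_apply, ← LinearMap.lTensor_comp_apply, hrj, LinearMap.lTensor_id,
        LinearMap.id_apply, LinearMap.id_apply] at this
    have hnat : ∀ z, (gr (pR (R := R) p) c).subtype.lTensor K (j.lTensor K (eN z)) =
        (s k).lTensor K (eT ((u.restrictScalars S).lTensor K z)) := fun z => by
      induction z using TensorProduct.induction_on with
      | zero => simp
      | add a b ha hb => simp only [map_add, ha, hb]
      | tmul a y =>
        induction y using TensorProduct.induction_on with
        | zero => simp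
        | add a b ha hb => simp only [tmul_add, map_add, ha, hb]
        | tmul b y => simp [eN, eT, u, j, incl]
    rw [injective_iff_map_eq_zero]
    intro z hz
    exact eN.map_eq_zero_iff.1 ((injective_iff_map_eq_zero _).1 hj _
      ((injective_iff_map_eq_zero _).1 (hgood K) _ (by rw [hnat, hz, map_zero, map_zero])))
  have hu : Injective u := injective_of_fibres u hfib
  -- base change to `A`
  let eN := AlgebraTensorModule.cancelBaseChange R S A A (LinearMap.ker (pR (R := R) p k))
  let eT := AlgebraTensorModule.cancelBaseChange R S A A (T (k + 1))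
  let v := (LinearMap.ker (pR (R := R) p k)).subtype.baseChange S
  have hv : Injective v := by
    intro a b hab
    let i : LinearMap.ker (pR (R := R) p k) →ₗ[R] N := LinearMap.codRestrict (N.restrictScalars R)
      (LinearMap.ker (pR (R := R) p k)).subtype fun y => y.2
    let i' : N →ₗ[R] LinearMap.ker (pR (R := R) p k) :=
      LinearMap.codRestrict _ (N.subtype.restrictScalars R) fun y => y.2
    have hi : Injective (i.lTensor S) := fun a b hab => by
      have := congrArg (i'.lTensor S) hab
      rwa [← LinearMap.lTensor_comp_apply, ← LinearMap.lTensor_comp_apply,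
        show i' ∘ₗ i = LinearMap.id from rfl, LinearMap.lTensor_id, LinearMap.id_apply, LinearMap.id_apply] at this
    have hnat : ∀ z, v z = u (i.lTensor S z) := fun z => by
      induction z using TensorProduct.induction_on with
      | zero => simp
      | add a b ha hb => simp only [map_add, ha, hb]
      | tmul a y => rfl
    rw [hnat, hnat] at hab
    exact hi (hu hab)
  have hexv : Exact v ((pR (R := R) p k).baseChange S) :=
    lTensor_exact (M := ↥(LinearMap.ker (pR (R := R) p k))) S (LinearMap.exact_subtype_ker_map _) (h.surj k)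
  have hA := LinearMap.lTensor_injective_of_exact_of_flat ((pR (R := R) p k).baseChange S)
    (LinearMap.lTensor_surjective S (h.surj k)) v hv hexv A
  have hnat : ∀ z, eT (v.lTensor A z) = (LinearMap.ker (pR (R := R) p k)).subtype.lTensor A (eN z) := fun z => by
    have h0 : eT (v.lTensor A 0) = (LinearMap.ker (pR (R := R) p k)).subtype.lTensor A (eN 0) := by
      simp only [map_zero]
    induction z using TensorProduct.induction_on with
    | zero => exact h0
    | add a b ha hb => simp only [map_add, ha, hb]
    | tmul a y =>
      induction y using TensorProduct.induction_on with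
      | zero => rw [tmul_zero]; exact h0
      | add a b ha hb => simp only [tmul_add, map_add, ha, hb]
      | tmul b y => simp [eN, eT, v]
  intro a b hab
  obtain ⟨a, rfl⟩ := eN.surjective a
  obtain ⟨b, rfl⟩ := eN.surjective b
  rw [← hnat, ← hnat] at hab
  exact congrArg eN (hA (eT.injective hab))

include h hgood in
theorem exists_stage_of_good : ∃ S : Subalgebra R A, S.FG ∧ ∀ k, Module.Flat S (S ⊗[R] T k) := by
  have hgrA := lTensor_subtype_injective (pR (R := R) p) h.decomp A (injective_component h hgood)
  -- `A ⊗ X` is the graded part over `A`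
  have hX : Injective ((incR (R := R) X).lTensor A) := by
    intro a b hab
    apply (LinearEquiv.lTensor A h.equivGr).injective
    refine hgrA ?_
    rw [← LinearEquiv.coe_coe, LinearEquiv.coe_lTensor, ← LinearMap.lTensor_comp_apply, ← LinearMap.lTensor_comp_apply]
    exact hab
  have hker : ∀ k, Module.Flat A (LinearMap.ker ((pR (R := R) p k).baseChange A)) := fun k =>
    flat_ker _ (LinearMap.lTensor_surjective A (h.surj k))
  have : Module.Flat A (grBC p c A) :=
    flat_gr_of_flat (T := fun k => A ⊗[R] T k) (fun k => (pR (R := R) p k).baseChange A) (h.decomp.baseChange A)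
  have hrho : Injective (rho h A) := fun a b hab => hX (congrArg Subtype.val hab)
  have : Module.Flat A (A ⊗[R] X) :=
    Module.Flat.of_linearEquiv (LinearEquiv.ofBijective (rho h A) ⟨hrho, rho_surjective h A⟩)
  obtain ⟨S, hS, hSX⟩ := FlatDescent.exists_stage_flat (R := R) C (M := X) (A := A)
  refine ⟨S, hS, fun k => ?_⟩
  have hinjA : Injective (S.val.toLinearMap.rTensor X) := by
    let i : S →ₗ[S] A := Algebra.linearMap S A
    have h1 := Module.Flat.rTensor_preserves_injective_linearMap (M := S ⊗[R] X) i Subtype.val_injective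
    let e₁ := TensorProduct.lid S (S ⊗[R] X)
    let e₂ := AlgebraTensorModule.cancelBaseChange R S A A X
    have hnat : ∀ z, e₂ (i.rTensor (S ⊗[R] X) (e₁.symm z)) = S.val.toLinearMap.rTensor X z := fun z => by
      induction z using TensorProduct.induction_on with
      | zero => simp
      | add a b ha hb => simp only [map_add, ha, hb]
      | tmul a x => simp [e₁, e₂, i, Algebra.smul_def]
    intro a b hab
    rw [← hnat, ← hnat] at hab
    exact e₁.symm.injective (h1 (e₂.injective hab))
  have hinj : Injective (InjFibre.bcMap R S X.subtype) := by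
    intro a b hab
    refine hinjA (hX ?_)
    rw [← LinearMap.comp_apply, ← LinearMap.comp_apply (g := S.val.toLinearMap.rTensor X),
      LinearMap.lTensor_comp_rTensor, ← LinearMap.rTensor_comp_lTensor, LinearMap.comp_apply, LinearMap.comp_apply]
    exact congrArg (S.val.toLinearMap.rTensor E) hab
  have : Module.Flat S (LinearMap.range (InjFibre.bcMap R S X.subtype)) :=
    Module.Flat.of_linearEquiv ((LinearEquiv.ofInjective _ hinj).restrictScalars S).symm
  exact (h.baseChange S).flat_pieces k

end Good

include h in
/-- **EGA IV 11.2.9**: a finitely generated stage where all pieces are flat. -/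
theorem exists_stage [IsNoetherianRing R] [Algebra.FiniteType R B] [Algebra.FiniteType R C] [Module.Finite C X]
    [∀ k, Module.Finite B (T k)] [Subsingleton (T 0)]
    (A : Type u) [CommRing A] [Algebra R A] [∀ k, Module.Flat A (A ⊗[R] T k)] :
    ∃ S : Subalgebra R A, S.FG ∧ ∀ k, Module.Flat S (S ⊗[R] T k) := by
  obtain ⟨S, hS, hgood⟩ := exists_good_stage (A := A) h
  have := FlatDescent.isNoetherianRing_of_fg hS
  have : Algebra.FiniteType S (S ⊗[R] B) := Algebra.FiniteType.baseChange (A := B) S
  have : Algebra.FiniteType S (S ⊗[R] C) := Algebra.FiniteType.baseChange (A := C) S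
  have : Module.Finite (S ⊗[R] C) (S ⊗[R] X) := FlatDescent.finite_bc R C X S
  have : Module.Finite (S ⊗[R] C) (LinearMap.range (InjFibre.bcMap R S X.subtype)) := Module.Finite.range _
  have : ∀ k, Module.Finite (S ⊗[R] B) (S ⊗[R] T k) := fun k => FlatDescent.finite_bc R B (T k) S
  have : ∀ k, Module.Flat A (A ⊗[S] (S ⊗[R] T k)) := fun k =>
    Module.Flat.of_linearEquiv (AlgebraTensorModule.cancelBaseChange R S A A (T k))
  obtain ⟨S', hS', hflat⟩ := exists_stage_of_good (h.baseChange S) (A := A) fun K _ _ =>
    injective_fibre_of_goodAt h S hgood K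
  refine ⟨S'.restrictScalars R, ?_, fun k => ?_⟩
  · obtain ⟨t, ht⟩ := hS
    obtain ⟨t', ht'⟩ := hS'
    classical
    exact ⟨t ∪ t', by rw [Finset.coe_union, Algebra.adjoin_union_eq_adjoin_adjoin, ← ht', ← ht]⟩
  · have := hflat k
    change Module.Flat S' (S' ⊗[R] T k)
    exact Module.Flat.of_linearEquiv (AlgebraTensorModule.cancelBaseChange R S S' S' (T k)).symm

end Groth.Agent.EGA43.GrFlat
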