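import Groth.Agent.EGA43.GrFlat.Filt
import Groth.Agent.EGA43.FlatDescent.Model
import Mathlib.RingTheory.Filtration
import Mathlib.RingTheory.Flat.Tensor

/-!
# Noetherian models of the truncations `M / J^k M`, and Krull's criterion along `V(J)`
-/

universe u

set_option autoImplicit false
set_option backward.isDefEq.respectTransparency false

open TensorProduct Function

namespace Groth.Agent.EGA43.GrFlat

attribute [local instance] FlatDescent.bcModule

section Transport

variable {R A₀ P B₀ M M₀ : Type u} [CommRing R] [CommRing A₀] [Algebra R A₀] [CommRing P] [Algebra R P]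
  [CommRing B₀] [Algebra A₀ B₀] [AddCommGroup M] [Module R M] [Module P M] [IsScalarTower R P M]
  [AddCommGroup M₀] [Module B₀ M₀] [Module A₀ M₀] [IsScalarTower A₀ B₀ M₀]
  (ψ : A₀ ⊗[R] P →ₐ[A₀] B₀) (hψ : Surjective ψ) (e : A₀ ⊗[R] M ≃ₗ[A₀] M₀)
  (he : ∀ t x, e (t • x) = ψ t • e x) {r : ℕ} (f : Fin r → P) (g : Fin r → B₀)
  (hg : ∀ i, ψ (1 ⊗ₜ f i) = g i)

include hψ he hg in
theorem map_range_pow (k : ℕ) :
    Submodule.map e.toLinearMap
        ((LinearMap.range (InjFibre.bcMap R A₀ (Filt.J f ^ k • (⊤ : Submodule P M)).subtype)).restrictScalars A₀) =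
      (Filt.J g ^ k • (⊤ : Submodule B₀ M₀)).restrictScalars A₀ := by
  have hJ : Filt.J g = Ideal.map (ψ.toRingHom.comp (Algebra.TensorProduct.includeRight (R := R) (A := A₀)).toRingHom) (Filt.J f) := by
    rw [Filt.J, Filt.J, Ideal.map_span, ← Set.range_comp]
    congr 2
    funext i
    exact (hg i).symm
  let W := LinearMap.range (InjFibre.bcMap R A₀ (Filt.J f ^ k • (⊤ : Submodule P M)).subtype)
  refine le_antisymm ?_ fun y hy => ?_
  · rintro _ ⟨_, ⟨w, rfl⟩, rfl⟩
    show e _ ∈ Filt.J g ^ k • (⊤ : Submodule B₀ M₀)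
    induction w using TensorProduct.induction_on with
    | zero => rw [map_zero, map_zero]; exact zero_mem _
    | add a b ha hb => rw [map_add, map_add]; exact add_mem ha hb
    | tmul a x =>
      obtain ⟨x, hx⟩ := x
      rw [InjFibre.bcMap_tmul, Submodule.subtype_apply]
      show e (a ⊗ₜ[R] x) ∈ Filt.J g ^ k • (⊤ : Submodule B₀ M₀)
      refine Submodule.smul_induction_on (p := fun x => e (a ⊗ₜ[R] x) ∈ Filt.J g ^ k • (⊤ : Submodule B₀ M₀)) hx
        (fun j hj m _ => ?_)
        (fun m m' hm hm' => by rw [tmul_add, map_add]; exact add_mem hm hm')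
      rw [show a ⊗ₜ[R] (j • m) = ((1 : A₀) ⊗ₜ[R] j) • (a ⊗ₜ[R] m) by rw [FlatDescent.bc_smul_tmul, one_mul], he]
      refine Submodule.smul_mem_smul ?_ trivial
      rw [hJ, ← Ideal.map_pow]
      exact Ideal.mem_map_of_mem _ hj
  · suffices ∃ w ∈ W, e w = y from this
    have hW : ∀ b : B₀, ∀ w ∈ W, ∃ w' ∈ W, e w' = b • e w := fun b w hw => by
      obtain ⟨t, rfl⟩ := hψ b
      exact ⟨t • w, W.smul_mem t hw, he t w⟩
    refine Submodule.smul_induction_on (p := fun y => ∃ w ∈ W, e w = y)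
      (show y ∈ Filt.J g ^ k • (⊤ : Submodule B₀ M₀) from hy) (fun j hj n _ => ?_) ?_
    · rw [hJ, ← Ideal.map_pow] at hj
      induction hj using Submodule.span_induction with
      | mem x hx =>
        obtain ⟨j, hj, rfl⟩ := hx
        obtain ⟨z, rfl⟩ := e.surjective n
        have hz : ∀ z : A₀ ⊗[R] M, ((1 : A₀) ⊗ₜ[R] j) • z ∈ W := fun z => by
          induction z using TensorProduct.induction_on with
          | zero => rw [smul_zero]; exact zero_mem _
          | add a b ha hb => rw [smul_add]; exact add_mem ha hb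
          | tmul a m =>
            rw [FlatDescent.bc_smul_tmul, one_mul]
            exact ⟨a ⊗ₜ ⟨j • m, Submodule.smul_mem_smul hj trivial⟩, rfl⟩
        exact ⟨((1 : A₀) ⊗ₜ[R] j) • z, hz z, he _ z⟩
      | zero => exact ⟨0, zero_mem _, by rw [map_zero, zero_smul]⟩
      | add a b _ _ ha hb =>
        obtain ⟨u, hu, hu'⟩ := ha
        obtain ⟨v, hv, hv'⟩ := hb
        exact ⟨u + v, add_mem hu hv, by rw [map_add, hu', hv', add_smul]⟩
      | smul b a _ ha =>
        obtain ⟨u, hu, hu'⟩ := ha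
        obtain ⟨w, hw, hw'⟩ := hW b u hu
        exact ⟨w, hw, by rw [hw', hu', smul_assoc]⟩
    · rintro a b ⟨u, hu, rfl⟩ ⟨v, hv, rfl⟩
      exact ⟨u + v, add_mem hu hv, map_add e u v⟩

omit [CommRing B₀] [Algebra A₀ B₀] [AddCommGroup M₀] [Module B₀ M₀] [Module A₀ M₀] [IsScalarTower A₀ B₀ M₀] in
theorem nonempty_quot_equiv (N : Submodule P M) :
    Nonempty (A₀ ⊗[R] (M ⧸ N) ≃ₗ[A₀]
      (A₀ ⊗[R] M) ⧸ (LinearMap.range (InjFibre.bcMap R A₀ N.subtype)).restrictScalars A₀) := by
  let q := (N.mkQ.restrictScalars R).baseChange A₀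
  have hq : Surjective q := LinearMap.lTensor_surjective A₀ (g := N.mkQ.restrictScalars R) N.mkQ_surjective
  have hex : Exact ((N.subtype.restrictScalars R).lTensor A₀) ((N.mkQ.restrictScalars R).lTensor A₀) :=
    lTensor_exact (M := ↥N) A₀ (LinearMap.exact_subtype_mkQ N) N.mkQ_surjective
  have hb : ∀ w, InjFibre.bcMap R A₀ N.subtype w = (N.subtype.restrictScalars R).lTensor A₀ w := fun w => by
    induction w using TensorProduct.induction_on with
    | zero => rw [map_zero, map_zero]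
    | add a b ha hb => rw [map_add, map_add, ha, hb]
    | tmul a m => rw [InjFibre.bcMap_tmul, LinearMap.lTensor_tmul]; rfl
  have hker : LinearMap.ker q = (LinearMap.range (InjFibre.bcMap R A₀ N.subtype)).restrictScalars A₀ := by
    ext z
    rw [LinearMap.mem_ker, Submodule.restrictScalars_mem, LinearMap.mem_range]
    refine ⟨fun hz => ?_, fun ⟨w, hw⟩ => ?_⟩
    · obtain ⟨w, hw⟩ := (hex z).1 hz
      exact ⟨w, (hb w).trans hw⟩
    · exact (hex z).2 ⟨w, (hb w).symm.trans hw⟩
  exact ⟨(q.quotKerEquivOfSurjective hq).symm ≪≫ₗ Submodule.quotEquivOfEq _ _ hker⟩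

include hψ he hg in
/-- The truncations commute with base change. -/
theorem nonempty_trunc_equiv (k : ℕ) :
    Nonempty (A₀ ⊗[R] Filt.T f M k ≃ₗ[A₀] M₀ ⧸ (Filt.J g ^ k • (⊤ : Submodule B₀ M₀)).restrictScalars A₀) := by
  obtain ⟨e₁⟩ := nonempty_quot_equiv (R := R) (A₀ := A₀) (Filt.J f ^ k • (⊤ : Submodule P M))
  exact ⟨e₁ ≪≫ₗ Submodule.Quotient.equiv _ _ e (map_range_pow ψ hψ e he f g hg k)⟩

end Transport

/-- Flatness of a quotient after base change, in the form of EGA IV 11.2.9. -/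
theorem flat_quot_baseChange_iff {A₀ : Type u} [CommRing A₀] {M₀ : Type u} [AddCommGroup M₀] [Module A₀ M₀]
    (N : Submodule A₀ M₀) (A : Type u) [CommRing A] [Algebra A₀ A] :
    Module.Flat A ((A ⊗[A₀] M₀) ⧸ LinearMap.range (N.subtype.baseChange A)) ↔
      Module.Flat A (A ⊗[A₀] (M₀ ⧸ N)) := by
  have hker : LinearMap.range (N.subtype.baseChange A) = LinearMap.ker (N.mkQ.baseChange A) := by
    ext z
    exact ((lTensor_exact (M := ↥N) A (LinearMap.exact_subtype_mkQ N) N.mkQ_surjective) z).symm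
  exact Module.Flat.equiv_iff (Submodule.quotEquivOfEq _ _ hker ≪≫ₗ
    (N.mkQ.baseChange A).quotKerEquivOfSurjective (LinearMap.lTensor_surjective A N.mkQ_surjective))

section Cancel

variable (R₀ R A₀ P M : Type u) [CommRing R₀] [CommRing R] [Algebra R₀ R] [CommRing A₀] [Algebra R A₀]
  [Algebra R₀ A₀] [IsScalarTower R₀ R A₀] [CommRing P] [Algebra R₀ P] [AddCommGroup M] [Module R₀ M]
  [Module P M] [IsScalarTower R₀ P M]

theorem cancel_smul (s : A₀ ⊗[R] (R ⊗[R₀] P)) (x : A₀ ⊗[R] (R ⊗[R₀] M)) :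
    AlgebraTensorModule.cancelBaseChange R₀ R A₀ A₀ M (s • x) =
      Algebra.TensorProduct.cancelBaseChange R₀ R A₀ A₀ P s •
        AlgebraTensorModule.cancelBaseChange R₀ R A₀ A₀ M x := by
  refine FlatDescent.map_smul_of_tmul
    (Algebra.TensorProduct.cancelBaseChange R₀ R A₀ A₀ P).toAlgHom.toRingHom
    (AlgebraTensorModule.cancelBaseChange R₀ R A₀ A₀ M).toLinearMap.toAddMonoidHom (fun a p b m => ?_) s x
  show AlgebraTensorModule.cancelBaseChange R₀ R A₀ A₀ M ((a ⊗ₜ[R] p) • (b ⊗ₜ[R] m)) =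
    Algebra.TensorProduct.cancelBaseChange R₀ R A₀ A₀ P (a ⊗ₜ[R] p) •
      AlgebraTensorModule.cancelBaseChange R₀ R A₀ A₀ M (b ⊗ₜ[R] m)
  rw [FlatDescent.bc_smul_tmul]
  induction m using TensorProduct.induction_on with
  | zero => simp
  | add m m' hm hm' => simp only [smul_add, tmul_add, map_add, hm, hm']
  | tmul c m =>
    induction p using TensorProduct.induction_on with
    | zero => simp
    | add p p' hp hp' => simp only [add_smul, tmul_add, map_add, hp, hp']
    | tmul d q =>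
      rw [FlatDescent.bc_smul_tmul]
      simp only [AlgebraTensorModule.cancelBaseChange_tmul, Algebra.TensorProduct.cancelBaseChange_tmul,
        FlatDescent.bc_smul_tmul]
      rw [smul_mul_smul_comm]

theorem cancel_tmul (p : R ⊗[R₀] P) :
    Algebra.TensorProduct.cancelBaseChange R₀ R A₀ A₀ P ((1 : A₀) ⊗ₜ[R] p) =
      (IsScalarTower.toAlgHom R₀ R A₀).toLinearMap.rTensor P p := by
  induction p using TensorProduct.induction_on with
  | zero => simp
  | add a b ha hb => simp only [map_add, tmul_add, ha, hb]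
  | tmul a q => simp [Algebra.smul_def]

end Cancel

/-- The model obtained from a finitely presented one by enlarging the base. -/
theorem exists_trunc_model_of {R₀ R A₀ B₀ P₀ M' M₀ : Type u} [CommRing R₀] [CommRing R] [IsNoetherianRing R]
    [Algebra R₀ R] [CommRing A₀] [Algebra R A₀] [Algebra R₀ A₀] [IsScalarTower R₀ R A₀] [CommRing B₀]
    [Algebra A₀ B₀] [CommRing P₀] [Algebra R₀ P₀] [Algebra.FiniteType R₀ P₀] [AddCommGroup M'] [Module R₀ M']
    [Module P₀ M'] [IsScalarTower R₀ P₀ M'] [Module.Finite P₀ M'] [AddCommGroup M₀] [Module B₀ M₀] [Module A₀ M₀]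
    (ψ : A₀ ⊗[R₀] P₀ →ₐ[A₀] B₀) (hψ : Surjective ψ) (e : A₀ ⊗[R₀] M' ≃ₗ[A₀] M₀)
    (he : ∀ t x, e (t • x) = ψ t • e x) {r : ℕ} (g : Fin r → B₀) (f : Fin r → R ⊗[R₀] P₀)
    (hf : ∀ i, ψ ((IsScalarTower.toAlgHom R₀ R A₀).toLinearMap.rTensor P₀ (f i)) = g i) :
    ∃ (R : Type u) (_ : CommRing R) (_ : IsNoetherianRing R) (_ : Algebra R A₀) (P M : Type u) (_ : CommRing P)
      (_ : Algebra R P) (_ : AddCommGroup M) (_ : Module R M) (_ : Module P M) (_ : IsScalarTower R P M)
      (_ : Algebra.FiniteType R P) (_ : Module.Finite P M)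
      (ψ : A₀ ⊗[R] P →ₐ[A₀] B₀) (e : A₀ ⊗[R] M ≃ₗ[A₀] M₀) (r : ℕ) (f : Fin r → P),
      Surjective ψ ∧ (∀ t x, e (t • x) = ψ t • e x) ∧
        Filt.J (fun i => ψ (1 ⊗ₜ f i)) = Ideal.span (Set.range g) := by
  have : Algebra.FiniteType R (R ⊗[R₀] P₀) := Algebra.FiniteType.baseChange (A := P₀) R
  have : Module.Finite (R ⊗[R₀] P₀) (R ⊗[R₀] M') := FlatDescent.finite_bc R₀ P₀ M' R
  refine ⟨R, inferInstance, inferInstance, inferInstance, R ⊗[R₀] P₀, R ⊗[R₀] M', inferInstance, inferInstance,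
    inferInstance, inferInstance, inferInstance, inferInstance, inferInstance, inferInstance,
    ψ.comp (Algebra.TensorProduct.cancelBaseChange R₀ R A₀ A₀ P₀).toAlgHom,
    AlgebraTensorModule.cancelBaseChange R₀ R A₀ A₀ M' ≪≫ₗ e, r, f,
    hψ.comp (Algebra.TensorProduct.cancelBaseChange R₀ R A₀ A₀ P₀).surjective,
    fun s x => (congrArg e (cancel_smul R₀ R A₀ P₀ M' s x)).trans (he _ _), ?_⟩
  rw [Filt.J]
  congr 2
  funext i
  exact (congrArg ψ (cancel_tmul R₀ R A₀ P₀ (f i))).trans (hf i)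

/-- A model of the truncations over a Noetherian ring. -/
theorem exists_trunc_model {A₀ B₀ : Type u} [CommRing A₀] [CommRing B₀] [Algebra A₀ B₀]
    [Algebra.FinitePresentation A₀ B₀] (J₀ : Ideal B₀) (hJ₀ : J₀.FG)
    (M₀ : Type u) [AddCommGroup M₀] [Module B₀ M₀] [Module A₀ M₀] [IsScalarTower A₀ B₀ M₀]
    [Module.FinitePresentation B₀ M₀] :
    ∃ (R : Type u) (_ : CommRing R) (_ : IsNoetherianRing R) (_ : Algebra R A₀) (P M : Type u) (_ : CommRing P)
      (_ : Algebra R P) (_ : AddCommGroup M) (_ : Module R M) (_ : Module P M) (_ : IsScalarTower R P M)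
      (_ : Algebra.FiniteType R P) (_ : Module.Finite P M)
      (ψ : A₀ ⊗[R] P →ₐ[A₀] B₀) (e : A₀ ⊗[R] M ≃ₗ[A₀] M₀) (r : ℕ) (f : Fin r → P),
      Surjective ψ ∧ (∀ t x, e (t • x) = ψ t • e x) ∧ Filt.J (fun i => ψ (1 ⊗ₜ f i)) = J₀ := by
  classical
  obtain ⟨R₀, _, P₀, M', _, _, _, _, _, _, _, _, ψ, e, hψ, he⟩ :=
    FlatDescent.exists_model_of_finitePresentation (A := A₀) (S := B₀) (N := M₀)
  obtain ⟨r, g, hg⟩ : ∃ (r : ℕ) (g : Fin r → B₀), Ideal.span (Set.range g) = J₀ := Submodule.fg_iff_exists_fin_generating_family.1 hJ₀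
  choose t ht using fun i => hψ (g i)
  choose Q hQ t' ht' using fun i => TensorProduct.Algebra.exists_of_fg (t i)
  let R := Finset.univ.sup Q
  have hR : R.FG := Finset.sup_induction Subalgebra.fg_bot (fun a ha b hb => Subalgebra.FG.sup ha hb) fun i _ => hQ i
  have := FlatDescent.isNoetherianRing_of_fg hR
  let f : Fin r → R ⊗[R₀] P₀ := fun i =>
    (Subalgebra.inclusion (Finset.le_sup (Finset.mem_univ i) : Q i ≤ R)).toLinearMap.rTensor P₀ (t' i)
  rw [← hg]
  refine exists_trunc_model_of (R := ↥R) ψ hψ e he g f fun i => ?_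
  rw [← ht i, ← ht' i]
  congr 1
  simp only [f]
  induction t' i using TensorProduct.induction_on with
  | zero => simp
  | add a b ha hb => simp only [map_add, ha, hb]
  | tmul a q => rfl

theorem exists_subtype_rTensor_eq {R B M : Type u} [CommRing R] [CommRing B] [Algebra R B] [AddCommGroup M]
    [Module R M] [Module B M] [IsScalarTower R B M] (N : Submodule B M) [Module.Flat R (M ⧸ N)] (I : Ideal R)
    (z : M ⊗[R] I) (hz : I.subtype.lTensor M z = 0) :
    ∃ w, (N.subtype.restrictScalars R).rTensor I w = z := by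
  let q := N.mkQ.restrictScalars R
  have hcomm : ∀ z : M ⊗[R] I,
      I.subtype.lTensor (M ⧸ N) (q.rTensor I z) = q.rTensor R (I.subtype.lTensor M z) := fun z => by
    induction z using TensorProduct.induction_on with
    | zero => simp
    | add a b ha hb => simp only [map_add, ha, hb]
    | tmul m a => simp
  have h0 : q.rTensor I z = 0 := by
    apply Module.Flat.lTensor_preserves_injective_linearMap (M := M ⧸ N) I.subtype I.injective_subtype
    rw [hcomm, hz, map_zero, map_zero]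
  have hex : Exact ((N.subtype.restrictScalars R).rTensor I) (q.rTensor I) :=
    rTensor_exact (M := ↥N) I (LinearMap.exact_subtype_mkQ N) N.mkQ_surjective
  exact (hex z).1 h0

/-- Krull: a module with flat truncations is flat at the primes containing the ideal. -/
theorem flat_localized_of_flat_trunc {R B : Type u} [CommRing R] [CommRing B] [Algebra R B] [IsNoetherianRing R]
    [IsNoetherianRing B] (J : Ideal B) (M : Type u) [AddCommGroup M] [Module R M] [Module B M]
    [IsScalarTower R B M] [Module.Finite B M] (hJ : ∀ k : ℕ, Module.Flat R (M ⧸ (J ^ k • (⊤ : Submodule B M))))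
    (Q : Ideal B) [Q.IsPrime] (hQ : J ≤ Q) : Module.Flat R (LocalizedModule Q.primeCompl M) := by
  rw [Module.Flat.iff_rTensor_injective']
  intro I
  refine FlatOpen.rTensor_injective_localized I.subtype _ fun z hz => ?_
  have : Module.Finite B (M ⊗[R] I) := by
    obtain ⟨t, ht⟩ := (Module.Finite.fg_top : (⊤ : Submodule B M).FG)
    obtain ⟨u, hu⟩ := (IsNoetherian.noetherian (⊤ : Submodule R I))
    classical
    refine ⟨⟨(t ×ˢ u).image fun x => x.1 ⊗ₜ[R] x.2, Submodule.eq_top_iff'.2 fun z => ?_⟩⟩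
    induction z using TensorProduct.induction_on with
    | zero => exact zero_mem _
    | add a b ha hb => exact add_mem ha hb
    | tmul m a =>
      have hm : m ∈ Submodule.span B (t : Set M) := ht ▸ trivial
      induction hm using Submodule.span_induction with
      | zero => rw [zero_tmul]; exact zero_mem _
      | add x y _ _ hx hy => rw [add_tmul]; exact add_mem hx hy
      | smul b x _ hx => rw [← TensorProduct.smul_tmul']; exact Submodule.smul_mem _ _ hx
      | mem m hm =>
        have ha : a ∈ Submodule.span R (u : Set I) := hu ▸ trivial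
        induction ha using Submodule.span_induction with
        | mem a ha => exact Submodule.subset_span (Finset.mem_image.2 ⟨(m, a), Finset.mem_product.2 ⟨hm, ha⟩, rfl⟩)
        | zero => rw [tmul_zero]; exact zero_mem _
        | add x y _ _ hx hy => rw [tmul_add]; exact add_mem hx hy
        | smul c x _ hx => rw [tmul_smul]; exact Submodule.smul_of_tower_mem _ c hx
  have hmem : z ∈ ⨅ k : ℕ, J ^ k • (⊤ : Submodule B (M ⊗[R] I)) := by
    rw [Submodule.mem_iInf]
    intro k
    have := hJ k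
    obtain ⟨w, rfl⟩ := exists_subtype_rTensor_eq (J ^ k • (⊤ : Submodule B M)) I z hz
    clear hz
    induction w using TensorProduct.induction_on with
    | zero => rw [map_zero]; exact zero_mem _
    | add a b ha hb => rw [map_add]; exact add_mem ha hb
    | tmul x a =>
      obtain ⟨x, hx⟩ := x
      rw [LinearMap.rTensor_tmul]
      show x ⊗ₜ[R] a ∈ _
      refine Submodule.smul_induction_on hx (fun j hj m _ => ?_)
        (fun m m' hm hm' => by rw [add_tmul]; exact add_mem hm hm')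
      rw [← TensorProduct.smul_tmul']
      exact Submodule.smul_mem_smul hj trivial
  obtain ⟨⟨c, hc⟩, hcz⟩ := (Ideal.mem_iInf_smul_pow_eq_bot_iff J z).1 hmem
  refine ⟨1 - c, fun h => ‹Q.IsPrime›.ne_top ((Ideal.eq_top_iff_one Q).2 ?_), ?_⟩
  · simpa using Q.add_mem h (hQ hc)
  · rw [sub_smul, one_smul, hcz, sub_self]

end Groth.Agent.EGA43.GrFlat
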