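import Groth.Prelude
import Groth.Agent.EGA43.GrFlat.Model
import Groth.Agent.S4848

/-!
# EGA IV 11.2.9: flatness of the associated graded module descends to a stage
-/

universe u

set_option autoImplicit false
set_option backward.isDefEq.respectTransparency false

open TensorProduct Function EGA43

namespace Groth.Agent.EGA43.GrFlat

attribute [local instance] FlatDescent.bcModule

theorem flat_trunc_iff {R A₀ P B₀ M M₀ : Type u} [CommRing R] [CommRing A₀] [Algebra R A₀] [CommRing P] [Algebra R P]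
    [CommRing B₀] [Algebra A₀ B₀] [AddCommGroup M] [Module R M] [Module P M] [IsScalarTower R P M]
    [AddCommGroup M₀] [Module B₀ M₀] [Module A₀ M₀] [IsScalarTower A₀ B₀ M₀]
    (ψ : A₀ ⊗[R] P →ₐ[A₀] B₀) (hψ : Surjective ψ) (e : A₀ ⊗[R] M ≃ₗ[A₀] M₀)
    (he : ∀ t x, e (t • x) = ψ t • e x) {r : ℕ} (f : Fin r → P) (J₀ : Ideal B₀)
    (hJ : Filt.J (fun i => ψ (1 ⊗ₜ f i)) = J₀) (k : ℕ)
    (C : Type u) [CommRing C] [Algebra A₀ C] [Algebra R C] [IsScalarTower R A₀ C] :
    Module.Flat C ((C ⊗[A₀] M₀) ⧸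
        LinearMap.range (((J₀ ^ k • (⊤ : Submodule B₀ M₀)).restrictScalars A₀).subtype.baseChange C)) ↔
      Module.Flat C (C ⊗[R] Filt.T f M k) := by
  subst hJ
  obtain ⟨e₁⟩ := nonempty_trunc_equiv ψ hψ e he f (fun i => ψ (1 ⊗ₜ f i)) (fun i => rfl) k
  rw [flat_quot_baseChange_iff]
  exact Module.Flat.equiv_iff ((LinearEquiv.baseChange A₀ C _ _ e₁.symm) ≪≫ₗ
    AlgebraTensorModule.cancelBaseChange R A₀ C C (Filt.T f M k))

theorem colimit_iff {A₀ : Type u} [CommRing A₀]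
    {ι : Type u} [Preorder ι] (G : ι → Type u) [∀ i, CommRing (G i)] [∀ i, Algebra A₀ (G i)]
    (g : ∀ i j, i ≤ j → G i →ₐ[A₀] G j)
    (A : Type u) [CommRing A] [Algebra A₀ A] [∀ i, Algebra (G i) A] [∀ i, IsScalarTower A₀ (G i) A]
    (hcolim : FlatCA.IsDirectedColimitRing G (fun i j h => (g i j h).toRingHom) A)
    {B₀ : Type u} [CommRing B₀] [Algebra A₀ B₀] [Algebra.FinitePresentation A₀ B₀]
    (J₀ : Ideal B₀) (hJ₀ : J₀.FG)
    (M₀ : Type u) [AddCommGroup M₀] [Module B₀ M₀] [Module A₀ M₀] [IsScalarTower A₀ B₀ M₀]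
    [Module.FinitePresentation B₀ M₀] :
    (∀ k : ℕ, Module.Flat A ((A ⊗[A₀] M₀) ⧸
        LinearMap.range (((J₀ ^ k • (⊤ : Submodule B₀ M₀)).restrictScalars A₀).subtype.baseChange A))) ↔
      ∃ i : ι, ∀ k : ℕ, Module.Flat (G i) ((G i ⊗[A₀] M₀) ⧸
        LinearMap.range (((J₀ ^ k • (⊤ : Submodule B₀ M₀)).restrictScalars A₀).subtype.baseChange (G i))) := by
  constructor
  · intro h
    obtain ⟨R, _, _, _, P, M, _, _, _, _, _, _, _, _, ψ, e, r, f, hψ, he, hJ⟩ :=
      exists_trunc_model J₀ hJ₀ M₀ (A₀ := A₀)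
    let _ : Algebra R A := Algebra.compHom A (algebraMap R A₀)
    have : IsScalarTower R A₀ A := .of_algebraMap_eq fun _ => rfl
    obtain ⟨S, hS, hflat⟩ := Filt.exists_stage f M A fun k => (flat_trunc_iff ψ hψ e he f J₀ hJ k A).1 (h k)
    have : Algebra.FiniteType R S := S.fg_iff_finiteType.1 hS
    have : Algebra.FinitePresentation R S := Algebra.FinitePresentation.of_finiteType.1 inferInstance
    let _ : ∀ i, Algebra R (G i) := fun i => Algebra.compHom (G i) (algebraMap R A₀)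
    have : ∀ i, IsScalarTower R A₀ (G i) := fun i => .of_algebraMap_eq fun _ => rfl
    obtain ⟨i, ⟨φ⟩⟩ := Groth.Agent.S4848.exists_lift (R₀ := R) G g A hcolim S S.val
    refine ⟨i, fun k => (flat_trunc_iff ψ hψ e he f J₀ hJ k (G i)).2 ?_⟩
    let _ : Algebra S (G i) := φ.toRingHom.toAlgebra
    have : IsScalarTower R S (G i) := .of_algebraMap_eq fun a => (φ.commutes a).symm
    have := hflat k
    exact Module.Flat.of_linearEquiv
      (AlgebraTensorModule.cancelBaseChange R S (G i) (G i) (Filt.T f M k)).symm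
  · rintro ⟨i, hi⟩ k
    rw [flat_quot_baseChange_iff]
    have := (flat_quot_baseChange_iff _ _).1 (hi k)
    exact Module.Flat.of_linearEquiv (AlgebraTensorModule.cancelBaseChange A₀ (G i) A A _).symm

end Groth.Agent.EGA43.GrFlat
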