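import Mathlib.RingTheory.Flat.Basic
import Mathlib.RingTheory.Flat.Equalizer
import Mathlib.Algebra.DirectSum.Module
import Mathlib.LinearAlgebra.TensorProduct.RightExactness

/-!
# Decomposed modules and their associated graded parts (EGA IV 11.2/11.3)

`E` is decomposed into the pieces `T (k+1)` and `gr` is the submodule of the elements whose
components die under `p k : T (k+1) → T k`.
-/

universe u

set_option autoImplicit false
set_option backward.isDefEq.respectTransparency false

open TensorProduct Function

namespace Groth.Agent.EGA43.GrFlat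

variable {R : Type u} [CommRing R] {T : ℕ → Type u} [∀ k, AddCommGroup (T k)] [∀ k, Module R (T k)]
  {E : Type u} [AddCommGroup E] [Module R E]

/-- `E` is the direct sum of the pieces. -/
structure Decomp (c : ∀ k, E →ₗ[R] T (k + 1)) (s : ∀ k, T (k + 1) →ₗ[R] E) : Prop where
  self : ∀ k y, c k (s k y) = y
  ne : ∀ k l, k ≠ l → ∀ y, c k (s l y) = 0
  sum : ∀ x, ∃ F : Finset ℕ, x = ∑ k ∈ F, s k (c k x)

variable (p : ∀ k, T (k + 1) →ₗ[R] T k) (c : ∀ k, E →ₗ[R] T (k + 1)) (s : ∀ k, T (k + 1) →ₗ[R] E)

/-- The associated graded part. -/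
def gr : Submodule R E := ⨅ k, LinearMap.ker (p k ∘ₗ c k)

theorem mem_gr {x : E} : x ∈ gr p c ↔ ∀ k, p k (c k x) = 0 := by simp [gr]

variable {c s} (D : Decomp c s)

include D in
theorem Decomp.sum_of_subset {x : E} {F : Finset ℕ} (h : x = ∑ k ∈ F, s k (c k x)) {F' : Finset ℕ}
    (hF : F ⊆ F') : x = ∑ k ∈ F', s k (c k x) := by
  refine h.trans (Finset.sum_subset hF fun k _ hk => ?_)
  rw [h, map_sum, Finset.sum_eq_zero fun l hl => D.ne k l (fun e => hk (e ▸ hl)) _, map_zero]

include D in
theorem Decomp.section_mem_gr {k : ℕ} {y : T (k + 1)} (hy : p k y = 0) : s k y ∈ gr p c := by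
  rw [mem_gr]
  intro l
  by_cases h : l = k
  · subst h; rw [D.self, hy]
  · rw [D.ne l k h, map_zero]

include D in
/-- The base change of a decomposition. -/
theorem Decomp.baseChange (A : Type u) [CommRing A] [Algebra R A] :
    Decomp (T := fun k => A ⊗[R] T k) (fun k => (c k).baseChange A) (fun k => (s k).baseChange A) where
  self k y := by
    induction y using TensorProduct.induction_on with
    | zero => simp
    | add a b ha hb => rw [map_add, map_add, ha, hb]
    | tmul a y => simp [D.self]
  ne k l h y := by
    induction y using TensorProduct.induction_on with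
    | zero => simp
    | add a b ha hb => rw [map_add, map_add, ha, hb, add_zero]
    | tmul a y => simp [D.ne k l h]
  sum x := by
    classical
    induction x using TensorProduct.induction_on with
    | zero => exact ⟨∅, by simp⟩
    | tmul a x =>
      obtain ⟨F, hF⟩ := D.sum x
      refine ⟨F, ?_⟩
      conv_lhs => rw [hF, tmul_sum]
      simp
    | add a b ha hb =>
      obtain ⟨F, hF⟩ := ha
      obtain ⟨F', hF'⟩ := hb
      have key : ∀ (z : A ⊗[R] E) (G G' : Finset ℕ), z = ∑ k ∈ G, (s k).baseChange A ((c k).baseChange A z) →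
          G ⊆ G' → z = ∑ k ∈ G', (s k).baseChange A ((c k).baseChange A z) := by
        intro z G G' h hG
        refine h.trans (Finset.sum_subset hG fun k _ hk => ?_)
        have : (c k).baseChange A z = 0 := by
          rw [h, map_sum]
          refine Finset.sum_eq_zero fun l hl => ?_
          have hkl : k ≠ l := fun e => hk (e ▸ hl)
          generalize (c l).baseChange A z = y
          induction y using TensorProduct.induction_on with
          | zero => simp
          | add a b ha hb => rw [map_add, map_add, ha, hb, add_zero]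
          | tmul a y => simp [D.ne k l hkl]
        rw [this, map_zero]
      refine ⟨F ∪ F', ?_⟩
      simp only [map_add, Finset.sum_add_distrib]
      rw [← key a F _ hF Finset.subset_union_left, ← key b F' _ hF' Finset.subset_union_right]

/-- Inclusion of a component. -/
def incl (k : ℕ) : LinearMap.ker (p k) →ₗ[R] gr p c :=
  LinearMap.codRestrict (gr p c) (s k ∘ₗ (LinearMap.ker (p k)).subtype) fun y =>
    D.section_mem_gr p (LinearMap.mem_ker.1 y.2)

/-- Projection onto a component. -/
def proj (k : ℕ) : gr p c →ₗ[R] LinearMap.ker (p k) :=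
  LinearMap.codRestrict (LinearMap.ker (p k)) (c k ∘ₗ (gr p c).subtype) fun x =>
    LinearMap.mem_ker.2 ((mem_gr p c).1 x.2 k)

theorem proj_incl (k : ℕ) : proj p k ∘ₗ incl p D k = LinearMap.id :=
  LinearMap.ext fun y => Subtype.ext (D.self k y)

theorem proj_incl_ne {k l : ℕ} (h : k ≠ l) : proj p k ∘ₗ incl p D l = 0 :=
  LinearMap.ext fun y => Subtype.ext (D.ne k l h y)

theorem exists_sum (x : gr p c) : ∃ F : Finset ℕ, x = ∑ k ∈ F, incl p D k (proj p k x) := by
  obtain ⟨F, hF⟩ := D.sum x.1
  refine ⟨F, Subtype.ext ?_⟩
  rw [AddSubmonoidClass.coe_finsetSum]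
  exact hF

include D in
/-- An elementwise decomposition survives tensoring. -/
theorem exists_sum_lTensor (V : Type u) [AddCommGroup V] [Module R V] (z : V ⊗[R] gr p c) :
    ∃ F : Finset ℕ, z = ∑ k ∈ F, (incl p D k).lTensor V ((proj p k).lTensor V z) := by
  classical
  have key : ∀ (z : V ⊗[R] gr p c) (G G' : Finset ℕ),
      z = ∑ k ∈ G, (incl p D k).lTensor V ((proj p k).lTensor V z) → G ⊆ G' →
        z = ∑ k ∈ G', (incl p D k).lTensor V ((proj p k).lTensor V z) := by
    intro z G G' h hG
    refine h.trans (Finset.sum_subset hG fun k _ hk => ?_)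
    have : (proj p k).lTensor V z = 0 := by
      rw [h, map_sum]
      refine Finset.sum_eq_zero fun l hl => ?_
      rw [← LinearMap.lTensor_comp_apply, proj_incl_ne p D (show k ≠ l from fun e => hk (e ▸ hl)), LinearMap.lTensor_zero,
        LinearMap.zero_apply]
    rw [this, map_zero]
  induction z using TensorProduct.induction_on with
  | zero => exact ⟨∅, by simp⟩
  | tmul v x =>
    obtain ⟨F, hF⟩ := exists_sum p D x
    refine ⟨F, ?_⟩
    conv_lhs => rw [hF, tmul_sum]
    simp
  | add a b ha hb =>
    obtain ⟨F, hF⟩ := ha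
    obtain ⟨F', hF'⟩ := hb
    refine ⟨F ∪ F', ?_⟩
    simp only [map_add, Finset.sum_add_distrib]
    rw [← key a F _ hF Finset.subset_union_left, ← key b F' _ hF' Finset.subset_union_right]

include D in
/-- Universal injectivity may be checked on the components. -/
theorem lTensor_subtype_injective (V : Type u) [AddCommGroup V] [Module R V]
    (h : ∀ k, Injective ((LinearMap.ker (p k)).subtype.lTensor V)) :
    Injective ((gr p c).subtype.lTensor V) := by
  rw [injective_iff_map_eq_zero]
  intro z hz
  obtain ⟨F, hF⟩ := exists_sum_lTensor p D V z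
  rw [hF]
  refine Finset.sum_eq_zero fun k _ => ?_
  suffices (proj p k).lTensor V z = 0 by rw [this, map_zero]
  apply h k
  rw [map_zero, ← LinearMap.lTensor_comp_apply,
    show (LinearMap.ker (p k)).subtype ∘ₗ proj p k = c k ∘ₗ (gr p c).subtype from rfl,
    LinearMap.lTensor_comp_apply, hz, map_zero]

theorem flat_ker_of_flat [Module.Flat R (gr p c)] (D : Decomp c s) (k : ℕ) :
    Module.Flat R (LinearMap.ker (p k)) :=
  Module.Flat.of_retract (incl p D k) (proj p k) (proj_incl p D k)

include D in
theorem flat_gr_of_flat [∀ k, Module.Flat R (LinearMap.ker (p k))] : Module.Flat R (gr p c) := by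
  classical
  let Φ : (DirectSum ℕ fun k => LinearMap.ker (p k)) →ₗ[R] gr p c := DirectSum.toModule R ℕ _ (incl p D)
  have hΦ : ∀ k x, proj p k (Φ x) = x k := fun k x => by
    induction x using DirectSum.induction_on with
    | zero => simp
    | of l y =>
      rw [← DirectSum.lof_eq_of R, DirectSum.toModule_lof]
      by_cases h : k = l
      · subst h; rw [DirectSum.lof_apply]; exact LinearMap.congr_fun (proj_incl p D k) y
      · rw [DirectSum.lof_eq_of, DirectSum.of_eq_of_ne _ _ _ h]
        exact LinearMap.congr_fun (proj_incl_ne p D h) y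
    | add a b ha hb => rw [map_add, map_add, ha, hb]; rfl
  refine .of_linearEquiv (LinearEquiv.ofBijective Φ ⟨fun a b hab => DFinsupp.ext fun k => ?_, fun x => ?_⟩).symm
  · exact (hΦ k a).symm.trans ((congrArg (proj p k) hab).trans (hΦ k b))
  · obtain ⟨F, hF⟩ := exists_sum p D x
    refine ⟨∑ k ∈ F, DirectSum.lof R ℕ _ k (proj p k x), ?_⟩
    rw [map_sum]
    exact (Finset.sum_congr rfl fun k _ => DirectSum.toModule_lof R k _).trans hF.symm

/-- A kernel with flat cokernel is universally injective. -/
theorem lTensor_ker_injective {M N : Type u} [AddCommGroup M] [Module R M] [AddCommGroup N] [Module R N]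
    (f : M →ₗ[R] N) (hf : Surjective f) [Module.Flat R N] (V : Type u) [AddCommGroup V] [Module R V] :
    Injective ((LinearMap.ker f).subtype.lTensor V) :=
  LinearMap.lTensor_injective_of_exact_of_flat f hf (LinearMap.ker f).subtype
    (LinearMap.ker f).injective_subtype (LinearMap.exact_subtype_ker_map f) V

/-- An extension of flat modules is flat. -/
theorem flat_of_exact {M' M M'' : Type u} [AddCommGroup M'] [Module R M'] [AddCommGroup M] [Module R M]
    [AddCommGroup M''] [Module R M''] (f : M' →ₗ[R] M) (g : M →ₗ[R] M'') (hf : Injective f)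
    (he : Exact f g) (hg : Surjective g) [Module.Flat R M'] [Module.Flat R M''] : Module.Flat R M := by
  rw [Module.Flat.iff_lTensor_preserves_injective_linearMap]
  intro X Y _ _ _ _ i hi
  rw [injective_iff_map_eq_zero]
  intro z hz
  have h1 : (g.rTensor X) z = 0 := by
    apply Module.Flat.lTensor_preserves_injective_linearMap (M := M'') i hi
    rw [map_zero, ← LinearMap.comp_apply, LinearMap.lTensor_comp_rTensor, ← LinearMap.rTensor_comp_lTensor,
      LinearMap.comp_apply, hz, map_zero]
  obtain ⟨w, rfl⟩ := (rTensor_exact X he hg z).1 h1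
  have h2 : Injective (f.rTensor Y) := by
    have h3 := LinearMap.lTensor_injective_of_exact_of_flat g hg f hf he Y
    have h4 : f.rTensor Y = (TensorProduct.comm R Y M).toLinearMap ∘ₗ f.lTensor Y ∘ₗ
        (TensorProduct.comm R M' Y).toLinearMap := TensorProduct.ext' fun a b => rfl
    rw [h4, LinearMap.coe_comp, LinearMap.coe_comp]
    exact ((TensorProduct.comm R Y M).injective.comp (h3.comp (TensorProduct.comm R M' Y).injective))
  rw [← LinearMap.comp_apply, LinearMap.lTensor_comp_rTensor, ← LinearMap.rTensor_comp_lTensor,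
    LinearMap.comp_apply] at hz
  have h5 : i.lTensor M' w = 0 := h2 (by rw [hz, map_zero])
  rw [Module.Flat.lTensor_preserves_injective_linearMap (M := M') i hi (h5.trans (map_zero _).symm),
    map_zero]

variable (hp : ∀ k, Surjective (p k))

include D hp in
/-- If the associated graded part is flat, so are all the pieces. -/
theorem flat_of_flat_gr [Subsingleton (T 0)] [Module.Flat R (gr p c)] : ∀ k, Module.Flat R (T k)
  | 0 => inferInstance
  | k + 1 => by
    have := flat_ker_of_flat p D k
    have := flat_of_flat_gr k
    exact flat_of_exact _ _ (LinearMap.ker (p k)).injective_subtype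
      (LinearMap.exact_subtype_ker_map (p k)) (hp k)

end Groth.Agent.EGA43.GrFlat
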