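import Groth.Agent.EGA43.GrFlat.Kill
import Groth.Agent.EGA43.GenFree

/-!
# Stages at which the graded part commutes with the fibres
-/

universe u

set_option autoImplicit false
set_option backward.isDefEq.respectTransparency false

open TensorProduct Function

namespace Groth.Agent.EGA43.GrFlat

attribute [local instance] FlatDescent.bcModule

variable {R : Type u} [CommRing R] {B C : Type u} [CommRing B] [CommRing C] [Algebra R B] [Algebra R C]
  {T : ℕ → Type u} [∀ k, AddCommGroup (T k)] [∀ k, Module R (T k)] [∀ k, Module B (T k)]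
  [∀ k, IsScalarTower R B (T k)]
  {E : Type u} [AddCommGroup E] [Module R E] [Module C E] [IsScalarTower R C E]
  {p : ∀ k, T (k + 1) →ₗ[B] T k} {c : ∀ k, E →ₗ[R] T (k + 1)}
  {s : ∀ k, T (k + 1) →ₗ[R] E} {X : Submodule C E} (h : Sys p c s X)

section Strata

variable {A : Type u} [CommRing A] [Algebra R A] [∀ k, Module.Flat A (A ⊗[R] T k)]

/-- The kernel over a stratum is killed at a stage. -/
theorem exists_stage_kills_ker [IsNoetherianRing R] [Algebra.FiniteType R C] [Module.Finite C X]
    (D : Type u) [CommRing D] [Algebra R D] [IsNoetherianRing D] :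
    ∃ S : Subalgebra R A, S.FG ∧ ∀ n : D ⊗[R] X, (incR (R := R) X).lTensor D n = 0 → (piS h S).lTensor D n = 0 := by
  classical
  have : IsNoetherianRing (D ⊗[R] C) :=
    have : Algebra.FiniteType D (D ⊗[R] C) := Algebra.FiniteType.baseChange (A := C) D
    Algebra.FiniteType.isNoetherianRing D _
  have : Module.Finite (D ⊗[R] C) (D ⊗[R] X) := FlatDescent.finite_bc R C X D
  obtain ⟨t, ht⟩ := (IsNoetherian.noetherian (LinearMap.ker (InjFibre.bcMap R D X.subtype)) :)
  have hk0 : ∀ k : t, (incR (R := R) X).lTensor D k.1 = 0 := fun k => by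
    have : k.1 ∈ LinearMap.ker (InjFibre.bcMap R D X.subtype) := by
      rw [← ht]; exact Submodule.subset_span k.2
    exact LinearMap.mem_ker.1 this
  choose S hS hkill using fun k : t => exists_stage_kill (A := A) h D k.1 (hk0 k)
  let S' := Finset.univ.sup S
  refine ⟨S', Finset.sup_induction Subalgebra.fg_bot (fun a ha b hb => Subalgebra.FG.sup ha hb) fun k _ => hS k,
    fun n hn => ?_⟩
  have hmem : n ∈ Submodule.span (D ⊗[R] C) (t : Set (D ⊗[R] X)) := ht.symm ▸ hn
  clear hn
  -- the graded part over `S'` as a module over `C`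
  have := InjFibre.isScalarTower_bc (R := R) (P := C) (M := E) S'
  let Y := LinearMap.range (InjFibre.bcMap R S' X.subtype)
  let π : X →ₗ[R] Y :=
    LinearMap.codRestrict (Y.restrictScalars R) (TensorProduct.mk R S' E 1 ∘ₗ incR (R := R) X) fun x => ⟨(1 : S') ⊗ₜ x, rfl⟩
  let ι : Y →ₗ[R] grBC p c S' :=
    LinearMap.codRestrict ((grBC p c S').restrictScalars R) (Y.subtype.restrictScalars R) fun y =>
      (h.range_bcMap S').le y.2
  have hι : Injective ι := fun a b hab => Subtype.ext (Subtype.ext_iff.1 hab :)
  suffices π.lTensor D n = 0 by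
    rw [show piS h S' = ι ∘ₗ π from LinearMap.ext fun x => rfl, LinearMap.lTensor_comp_apply, this, map_zero]
  have hψ : ∀ (t : D ⊗[R] C) x, π.lTensor D x = 0 → π.lTensor D (t • x) = 0 := fun t x hx => by
    induction t using TensorProduct.induction_on with
    | zero => simp
    | add t t' ht ht' => rw [add_smul, map_add, ht, ht', add_zero]
    | tmul a q =>
      have key : ∀ x, π.lTensor D ((a ⊗ₜ[R] q) • x) =
          TensorProduct.map (Algebra.lsmul R R D a) (Algebra.lsmul R R Y ((1 : S') ⊗ₜ[R] q)) (π.lTensor D x) := by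
        intro x
        induction x using TensorProduct.induction_on with
        | zero => simp
        | add u v hu hv => simp only [smul_add, map_add, hu, hv]
        | tmul d y =>
          rw [FlatDescent.bc_smul_tmul, LinearMap.lTensor_tmul, LinearMap.lTensor_tmul, TensorProduct.map_tmul]
          refine congrArg ((a * d) ⊗ₜ[R] ·) (Subtype.ext ?_)
          show (1 : S') ⊗ₜ[R] ((q • y : X) : E) = ((1 : S') ⊗ₜ[R] q) • ((1 : S') ⊗ₜ[R] (y : E))
          rw [FlatDescent.bc_smul_tmul, one_mul]
          rfl
      rw [key, hx, map_zero]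
  induction hmem using Submodule.span_induction with
  | mem k hk =>
    have hle : S ⟨k, hk⟩ ≤ S' := Finset.le_sup (Finset.mem_univ _)
    have h1 : (piS h S').lTensor D k = 0 := by
      rw [show piS h S' = trans (Subalgebra.inclusion hle) ∘ₗ piS h (S ⟨k, hk⟩) from
        LinearMap.ext fun x => (trans_piS h _ x).symm, LinearMap.lTensor_comp_apply, hkill, map_zero]
    let ι' : grBC p c S' →ₗ[R] Y :=
      LinearMap.codRestrict (Y.restrictScalars R) ((grBC p c S').subtype.restrictScalars R) fun y =>
        (h.range_bcMap S').ge y.2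
    rw [show π = ι' ∘ₗ piS h S' from LinearMap.ext fun x => rfl, LinearMap.lTensor_comp_apply, h1, map_zero]
  | zero => exact map_zero _
  | add a b _ _ ha hb => rw [map_add, ha, hb, add_zero]
  | smul r a _ ha => exact hψ r a ha

include h in
theorem Sys.flat_pieces [Module.Flat R X] [Subsingleton (T 0)] : ∀ k, Module.Flat R (T k) :=
  have : Module.Flat R (gr (pR (R := R) p) c) := Module.Flat.of_linearEquiv h.equivGr.symm
  flat_of_flat_gr (pR (R := R) p) h.decomp h.surj

omit [∀ k, Module B (T k)] [∀ k, IsScalarTower R B (T k)] in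
/-- The image of a flat base change of a submodule. -/
theorem flat_range_bcMap (S : Type u) [CommRing S] [Algebra R S] [Module.Flat R S] (Y : Submodule C E)
    [Module.Flat S (S ⊗[R] Y)] :
    Module.Flat S (LinearMap.range (InjFibre.bcMap R S Y.subtype)) :=
  have hinj : Injective (InjFibre.bcMap R S Y.subtype) :=
    Module.Flat.lTensor_preserves_injective_linearMap (M := S) (Y.subtype.restrictScalars R) Y.injective_subtype
  Module.Flat.of_linearEquiv ((LinearEquiv.ofInjective _ hinj).restrictScalars S).symm

include h in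
/-- Generic flatness of all pieces on a stratum. -/
theorem exists_flat_stratum [IsNoetherianRing R] [Algebra.FiniteType R C] [Module.Finite C X]
    [Subsingleton (T 0)] (I : Ideal R) [I.IsPrime] :
    ∃ f : R, f ∉ I ∧ ∀ k, Module.Flat (Localization.Away (Ideal.Quotient.mk I f))
      (Localization.Away (Ideal.Quotient.mk I f) ⊗[R] T k) := by
  let D := R ⧸ I
  have : Algebra.FiniteType D (D ⊗[R] C) := Algebra.FiniteType.baseChange (A := C) D
  have : Module.Finite (D ⊗[R] C) (D ⊗[R] X) := FlatDescent.finite_bc R C X D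
  have : Module.Finite (D ⊗[R] C) (LinearMap.range (InjFibre.bcMap R D X.subtype)) := Module.Finite.range _
  obtain ⟨d, hd, hfree⟩ := GenFree.gFree (R := D) (S := D ⊗[R] C) (LinearMap.range (InjFibre.bcMap R D X.subtype))
  obtain ⟨f, rfl⟩ := Ideal.Quotient.mk_surjective d
  refine ⟨f, fun hf => hd (Ideal.Quotient.eq_zero_iff_mem.2 hf), fun k => ?_⟩
  let Df := Localization.Away (Ideal.Quotient.mk I f)
  have hD := h.baseChange D
  have := flat_range_bcMap (R := D) (C := D ⊗[R] C) Df (LinearMap.range (InjFibre.bcMap R D X.subtype))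
  have : Subsingleton (D ⊗[R] T 0) := inferInstance
  have : Subsingleton (Df ⊗[D] (D ⊗[R] T 0)) := inferInstance
  have := (hD.baseChange Df).flat_pieces k
  exact Module.Flat.of_linearEquiv (AlgebraTensorModule.cancelBaseChange R D Df Df (T k)).symm

theorem goodAt_of_stratum {S D : Type u} [CommRing S] [Algebra R S] [CommRing D] [Algebra R D]
    [∀ k, Module.Flat D (D ⊗[R] T k)]
    (hS : ∀ n : D ⊗[R] X, (incR (R := R) X).lTensor D n = 0 → (piS h S).lTensor D n = 0)
    (K : Type u) [CommRing K] [Algebra R K] [Algebra S K] [IsScalarTower R S K] [Algebra D K]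
    [IsScalarTower R D K] : GoodAt h S K := by
  intro w hw
  let β := rho h D
  have hU : Injective ((grBC p c D).subtype.lTensor K) :=
    lTensor_subtype_injective (T := fun k => D ⊗[R] T k) (fun k => (pR (R := R) p k).baseChange D)
      (h.decomp.baseChange D) K fun k => lTensor_ker_injective ((pR (R := R) p k).baseChange D) (LinearMap.lTensor_surjective D (g := pR (R := R) p k) (h.surj k)) K
  let e := AlgebraTensorModule.cancelBaseChange R D K K X
  let eE := AlgebraTensorModule.cancelBaseChange R D K K E
  have hnat : ∀ z, eE ((grBC p c D).subtype.lTensor K (β.lTensor K z)) = (incR (R := R) X).lTensor K (e z) := by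
    intro z
    induction z using TensorProduct.induction_on with
    | zero => simp
    | add a b ha hb => simp only [map_add, ha, hb]
    | tmul a y =>
      induction y using TensorProduct.induction_on with
      | zero => simp
      | add a b ha hb => simp only [tmul_add, map_add, ha, hb]
      | tmul d x => simp [e, eE, β, rho]
  obtain ⟨z, rfl⟩ := e.surjective w
  rw [← hnat, eE.map_eq_zero_iff] at hw
  have hz : β.lTensor K z = 0 := hU (hw.trans (map_zero _).symm)
  obtain ⟨v, rfl⟩ := exists_lTensor_ker_eq (R := D) β (rho_surjective h D) K z hz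
  clear hw hz
  induction v using TensorProduct.induction_on with
  | zero => simp
  | add a b ha hb => simp only [map_add, ha, hb, add_zero]
  | tmul a n =>
    obtain ⟨n, hn⟩ := n
    have hn' : (incR (R := R) X).lTensor D n = 0 := congrArg Subtype.val (LinearMap.mem_ker.1 hn)
    let Ψ : D ⊗[R] grBC p c S →ₗ[R] K ⊗[S] grBC p c S :=
      TensorProduct.lift (LinearMap.mk₂ R (fun d y => (a * algebraMap D K d) ⊗ₜ[S] y)
        (fun d d' y => by rw [map_add, mul_add, add_tmul])
        (fun r d y => by
          rw [Algebra.smul_def, map_mul, ← IsScalarTower.algebraMap_apply, TensorProduct.smul_tmul',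
            Algebra.smul_def]
          congr 1
          ring)
        (fun d y y' => tmul_add _ _ _)
        (fun r d y => tmul_smul r _ y))
    have key : ∀ n : D ⊗[R] X, sigma h S K (e (a ⊗ₜ n)) = Ψ ((piS h S).lTensor D n) := fun n => by
      induction n using TensorProduct.induction_on with
      | zero => simp
      | add x y hx hy => simp only [tmul_add, map_add, hx, hy]
      | tmul d x => simp [e, sigma_tmul, Ψ, Algebra.smul_def, mul_comm]
    rw [LinearMap.lTensor_tmul]
    show sigma h S K (e (a ⊗ₜ n)) = 0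
    rw [key, hS n hn', map_zero]

variable (A) in
/-- Some finitely generated stage commutes with every fibre. -/
theorem exists_good_stage [IsNoetherianRing R] [Algebra.FiniteType R C] [Module.Finite C X]
    [Subsingleton (T 0)] :
    ∃ S : Subalgebra R A, S.FG ∧ ∀ (K : Type u) [Field K] [Algebra R K] [Algebra S K] [IsScalarTower R S K],
      GoodAt h S K := by
  suffices H : ∀ I : Ideal R, ∃ S : Subalgebra R A, S.FG ∧ ∀ (K : Type u) [Field K] [Algebra R K] [Algebra S K]
      [IsScalarTower R S K], (∀ i ∈ I, algebraMap R K i = 0) → GoodAt h S K by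
    obtain ⟨S, hS, hgood⟩ := H ⊥
    exact ⟨S, hS, fun K _ _ _ _ => hgood K fun i hi => by rw [(Submodule.mem_bot R).1 hi, map_zero]⟩
  refine fun I => IsNoetherian.induction (R := R) (M := R) (P := fun I : Ideal R => ∃ S : Subalgebra R A, S.FG ∧
    ∀ (K : Type u) [Field K] [Algebra R K] [Algebra S K] [IsScalarTower R S K],
      (∀ i ∈ I, algebraMap R K i = 0) → GoodAt h S K) (fun (I : Ideal R) ih => ?_) I
  show ∃ S : Subalgebra R A, S.FG ∧ ∀ (K : Type u) [Field K] [Algebra R K] [Algebra S K] [IsScalarTower R S K],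
      (∀ i ∈ I, algebraMap R K i = 0) → GoodAt h S K
  by_cases hI : I = ⊤
  · refine ⟨⊥, Subalgebra.fg_bot, fun K _ _ _ _ hK => absurd (hK 1 (hI ▸ trivial)) (by simp)⟩
  have union : ∀ a b : R, I < I ⊔ Ideal.span {a} → I < I ⊔ Ideal.span {b} →
      (∀ (K : Type u) [Field K] [Algebra R K], (∀ i ∈ I, algebraMap R K i = 0) →
        algebraMap R K a = 0 ∨ algebraMap R K b = 0) →
      ∃ S : Subalgebra R A, S.FG ∧ ∀ (K : Type u) [Field K] [Algebra R K] [Algebra S K]
        [IsScalarTower R S K], (∀ i ∈ I, algebraMap R K i = 0) → GoodAt h S K := by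
    intro a b ha hb hab
    obtain ⟨Sa, hSa, hga⟩ := ih (I ⊔ Ideal.span {a}) ha
    obtain ⟨Sb, hSb, hgb⟩ := ih (I ⊔ Ideal.span {b}) hb
    refine ⟨Sa ⊔ Sb, hSa.sup hSb, fun K _ _ _ _ hK => ?_⟩
    have ext : ∀ x, algebraMap R K x = 0 → ∀ i ∈ I ⊔ Ideal.span {x}, algebraMap R K i = 0 := fun x hx =>
      show I ⊔ Ideal.span {x} ≤ RingHom.ker (algebraMap R K) from
        sup_le hK ((Ideal.span_singleton_le_iff_mem _).2 hx)
    rcases hab K hK with hx | hx
    · exact GoodAt.mono h (Subalgebra.inclusion le_sup_left) (hga K (ext a hx))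
    · exact GoodAt.mono h (Subalgebra.inclusion le_sup_right) (hgb K (ext b hx))
  by_cases hp : I.IsPrime
  · obtain ⟨f, hf, hflat⟩ := exists_flat_stratum h I
    let D := Localization.Away (Ideal.Quotient.mk I f)
    have := hflat
    have : IsNoetherianRing D := IsLocalization.isNoetherianRing (Submonoid.powers (Ideal.Quotient.mk I f)) D inferInstance
    obtain ⟨Sk, hSk, hkill⟩ := exists_stage_kills_ker (A := A) h D
    obtain ⟨Sf, hSf, hgf⟩ := ih _ (show I < I ⊔ Ideal.span {f} from
      lt_of_le_of_ne le_sup_left fun e => hf (e ▸ Ideal.mem_sup_right (Ideal.mem_span_singleton_self f)))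
    refine ⟨Sk ⊔ Sf, hSk.sup hSf, fun K _ _ _ _ hK => ?_⟩
    by_cases hfK : algebraMap R K f = 0
    · refine GoodAt.mono h (Subalgebra.inclusion le_sup_right) (hgf K ?_)
      exact show I ⊔ Ideal.span {f} ≤ RingHom.ker (algebraMap R K) from
        sup_le hK ((Ideal.span_singleton_le_iff_mem _).2 hfK)
    · let φ : R ⧸ I →+* K := Ideal.Quotient.lift I (algebraMap R K) hK
      have hu : IsUnit (φ (Ideal.Quotient.mk I f)) := by
        rw [Ideal.Quotient.lift_mk]; exact isUnit_iff_ne_zero.2 hfK
      let ψ : D →+* K := IsLocalization.Away.lift (S := D) (Ideal.Quotient.mk I f) hu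
      let _ : Algebra D K := ψ.toAlgebra
      have : IsScalarTower R D K := .of_algebraMap_eq fun r => by
        show algebraMap R K r = ψ (algebraMap R D r)
        rw [IsScalarTower.algebraMap_apply R (R ⧸ I) D, IsLocalization.Away.lift_eq]
        rfl
      refine GoodAt.mono h (Subalgebra.inclusion le_sup_left) ?_
      intro _ _
      exact goodAt_of_stratum h (D := D) hkill K
  · obtain ⟨a, ha, b, hb, hab⟩ : ∃ a ∉ I, ∃ b ∉ I, a * b ∈ I := by
      rw [Ideal.isPrime_iff] at hp
      push Not at hp
      obtain ⟨a, b, hab, ha, hb⟩ := hp hI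
      exact ⟨a, ha, b, hb, hab⟩
    refine union a b (lt_of_le_of_ne le_sup_left fun e => ha (e ▸ Ideal.mem_sup_right (Ideal.mem_span_singleton_self a)))
      (lt_of_le_of_ne le_sup_left fun e => hb (e ▸ Ideal.mem_sup_right (Ideal.mem_span_singleton_self b)))
      fun K _ _ hK => ?_
    exact mul_eq_zero.1 (by rw [← map_mul]; exact hK _ hab)

end Strata

end Groth.Agent.EGA43.GrFlat
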