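import Groth.Agent.EGA43.GrFlat.Stage
import Mathlib.Algebra.Polynomial.Module.Basic
import Mathlib.RingTheory.FiniteType

/-!
# The filtration by powers of an ideal as a graded system
-/

universe u

set_option autoImplicit false
set_option backward.isDefEq.respectTransparency false

open TensorProduct Function

namespace Groth.Agent.EGA43.GrFlat.Filt

attribute [local instance] FlatDescent.bcModule

variable {R B : Type u} [CommRing R] [CommRing B] [Algebra R B] {r : ℕ} (f : Fin r → B)
  (M : Type u) [AddCommGroup M] [Module B M] [Module R M] [IsScalarTower R B M]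

/-- The ideal. -/
abbrev J : Ideal B := Ideal.span (Set.range f)

/-- The truncations. -/
abbrev T (k : ℕ) : Type u := M ⧸ (J f ^ k • (⊤ : Submodule B M))

/-- The transition maps. -/
abbrev p (k : ℕ) : T f M (k + 1) →ₗ[B] T f M k :=
  Submodule.factor (Submodule.smul_mono (Ideal.pow_le_pow_right k.le_succ) le_rfl)

theorem p_surjective (k : ℕ) : Surjective (p f M k) := Submodule.factor_surjective _

instance : Subsingleton (T f M 0) := by
  rw [Submodule.Quotient.subsingleton_iff]
  simp

/-- `B[u] → B[X]`, `u_i ↦ f_i X`. -/
noncomputable def phi : MvPolynomial (Fin r) B →ₐ[B] Polynomial B :=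
  MvPolynomial.aeval fun i => Polynomial.C (f i) * Polynomial.X

/-- The filtered pieces shifted by `d`. -/
def fil (d : ℕ) : Submodule B (PolynomialModule B M) where
  carrier := {z | ∀ k, z.coeff k ∈ J f ^ (k + d) • (⊤ : Submodule B M)}
  add_mem' ha hb k := add_mem (ha k) (hb k)
  zero_mem' k := zero_mem _
  smul_mem' b z hz k := Submodule.smul_mem _ b (hz k)

theorem phi_smul_mem {d : ℕ} (t : MvPolynomial (Fin r) B) {z : PolynomialModule B M} (hz : z ∈ fil f M d) :
    phi f t • z ∈ fil f M d := by
  induction t using MvPolynomial.induction_on generalizing z with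
  | C b =>
    rw [← MvPolynomial.algebraMap_eq, AlgHom.commutes, algebraMap_smul]
    exact Submodule.smul_mem _ _ hz
  | add a b ha hb => rw [map_add, add_smul]; exact add_mem (ha hz) (hb hz)
  | mul_X a i ha =>
    rw [map_mul, mul_smul]
    refine ha ?_
    rw [show phi f (MvPolynomial.X i) = Polynomial.monomial 1 (f i) by
      simp [phi, Polynomial.C_mul_X_eq_monomial]]
    intro k
    rw [PolynomialModule.monomial_smul_apply]
    split_ifs with hk
    · obtain ⟨k, rfl⟩ : ∃ j, k = j + 1 := ⟨k - 1, by omega⟩
      rw [Nat.add_sub_cancel, show k + 1 + d = k + d + 1 by ring, pow_succ', Submodule.mul_smul]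
      exact Submodule.smul_mem_smul (Ideal.subset_span ⟨i, rfl⟩) (hz k)
    · exact zero_mem _

/-- The ambient module of the graded part. -/
def E : Type u := PolynomialModule B M ⧸ fil f M 1

noncomputable instance : AddCommGroup (E f M) := inferInstanceAs (AddCommGroup (_ ⧸ fil f M 1))
noncomputable instance : Module B (E f M) := inferInstanceAs (Module B (_ ⧸ fil f M 1))
noncomputable instance : Module R (E f M) := inferInstanceAs (Module R (_ ⧸ fil f M 1))
instance : IsScalarTower R B (E f M) := inferInstanceAs (IsScalarTower R B (_ ⧸ fil f M 1))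

/-- The quotient map. -/
noncomputable def mk : PolynomialModule B M →ₗ[B] E f M := (fil f M 1).mkQ

theorem mk_surjective : Surjective (mk f M) := Submodule.mkQ_surjective _

/-- The action of `B[u]`. -/
noncomputable def act : MvPolynomial (Fin r) B →+* Module.End B (E f M) where
  toFun t := (fil f M 1).mapQ (fil f M 1)
    ((Algebra.lsmul B B (PolynomialModule B M) : Polynomial B →ₐ[B] _) (phi f t)) fun _ hz => phi_smul_mem f M t hz
  map_one' := LinearMap.ext fun x => by
    obtain ⟨z, rfl⟩ := mk_surjective f M x
    show mk f M (phi f 1 • z) = mk f M z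
    rw [map_one, one_smul]
  map_mul' a b := LinearMap.ext fun x => by
    obtain ⟨z, rfl⟩ := mk_surjective f M x
    show mk f M (phi f (a * b) • z) = mk f M (phi f a • phi f b • z)
    rw [map_mul, mul_smul]
  map_zero' := LinearMap.ext fun x => by
    obtain ⟨z, rfl⟩ := mk_surjective f M x
    show mk f M (phi f 0 • z) = 0
    rw [map_zero, zero_smul, map_zero]
  map_add' a b := LinearMap.ext fun x => by
    obtain ⟨z, rfl⟩ := mk_surjective f M x
    show mk f M (phi f (a + b) • z) = mk f M (phi f a • z) + mk f M (phi f b • z)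
    rw [map_add, add_smul, map_add]

noncomputable instance : Module (MvPolynomial (Fin r) B) (E f M) := Module.compHom _ (act f M)

theorem smul_mk (t : MvPolynomial (Fin r) B) (z : PolynomialModule B M) :
    t • mk f M z = mk f M (phi f t • z) := rfl

instance : IsScalarTower B (MvPolynomial (Fin r) B) (E f M) :=
  IsScalarTower.of_algebraMap_smul fun b x => by
    obtain ⟨z, rfl⟩ := mk_surjective f M x
    rw [smul_mk, AlgHom.commutes, algebraMap_smul, map_smul]

instance : IsScalarTower R (MvPolynomial (Fin r) B) (E f M) :=
  IsScalarTower.of_algebraMap_smul fun a x => by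
    rw [IsScalarTower.algebraMap_apply R B (MvPolynomial (Fin r) B), algebraMap_smul, algebraMap_smul]

/-- Components. -/
noncomputable def c (k : ℕ) : E f M →ₗ[B] T f M (k + 1) :=
  (fil f M 1).liftQ ((J f ^ (k + 1) • (⊤ : Submodule B M)).mkQ ∘ₗ
    { toFun := fun z => z.coeff k, map_add' := fun _ _ => rfl, map_smul' := fun _ _ => rfl })
    fun _ hz => LinearMap.mem_ker.2 ((Submodule.Quotient.mk_eq_zero _).2 (hz k))

theorem c_mk (k : ℕ) (z : PolynomialModule B M) : c f M k (mk f M z) = Submodule.Quotient.mk (z.coeff k) := rfl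

/-- Sections. -/
noncomputable def s (k : ℕ) : T f M (k + 1) →ₗ[B] E f M :=
  (J f ^ (k + 1) • (⊤ : Submodule B M)).liftQ (mk f M ∘ₗ PolynomialModule.lsingle B k) fun m hm =>
    LinearMap.mem_ker.2 ((Submodule.Quotient.mk_eq_zero _).2 fun l => by
      rw [PolynomialModule.lsingle_apply]
      split_ifs with h
      · subst h; exact hm
      · exact zero_mem _)

theorem s_mk (k : ℕ) (m : M) :
    s f M k (Submodule.Quotient.mk m) = mk f M (PolynomialModule.lsingle B k m) := rfl

theorem decomp : Decomp (R := R) (fun k => (c f M k).restrictScalars R) (fun k => (s f M k).restrictScalars R) where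
  self k y := by
    obtain ⟨m, rfl⟩ := Submodule.Quotient.mk_surjective _ y
    show c f M k (s f M k _) = _
    rw [s_mk, c_mk, PolynomialModule.lsingle_apply, if_pos rfl]
  ne k l h y := by
    obtain ⟨m, rfl⟩ := Submodule.Quotient.mk_surjective _ y
    show c f M k (s f M l _) = 0
    rw [s_mk, c_mk, PolynomialModule.lsingle_apply, if_neg (Ne.symm h), Submodule.Quotient.mk_zero]
  sum x := by
    obtain ⟨z, rfl⟩ := mk_surjective f M x
    refine ⟨z.coeff.support, ?_⟩
    show mk f M z = ∑ k ∈ z.coeff.support, s f M k (c f M k (mk f M z))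
    simp only [c_mk, s_mk, ← map_sum]
    congr 1
    refine PolynomialModule.ext ?_
    rw [PolynomialModule.coeff_sum]
    exact (Finsupp.sum_single z.coeff).symm

/-- The graded part, as a module over `B[u]`. -/
noncomputable def X : Submodule (MvPolynomial (Fin r) B) (E f M) :=
  Submodule.span _ (Set.range fun m : M => mk f M (PolynomialModule.lsingle B 0 m))

theorem single_mem_X : ∀ (k : ℕ), ∀ m ∈ J f ^ k • (⊤ : Submodule B M),
    mk f M (PolynomialModule.lsingle B k m) ∈ X f M
  | 0, m, _ => Submodule.subset_span ⟨m, rfl⟩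
  | k + 1, m, hm => by
    rw [pow_succ', Submodule.mul_smul] at hm
    refine Submodule.smul_induction_on hm (fun a ha m hm => ?_)
      (fun x y hx hy => by rw [map_add, map_add]; exact add_mem hx hy)
    induction ha using Submodule.span_induction with
    | zero => rw [zero_smul, map_zero, map_zero]; exact zero_mem _
    | add a b _ _ ha hb => rw [add_smul, map_add, map_add]; exact add_mem ha hb
    | smul b a _ ha =>
      rw [smul_assoc, map_smul, map_smul, ← algebraMap_smul (MvPolynomial (Fin r) B) b]
      exact Submodule.smul_mem _ _ ha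
    | mem a ha =>
      obtain ⟨i, rfl⟩ := ha
      have := Submodule.smul_mem (X f M) (MvPolynomial.X i) (single_mem_X k m hm)
      rwa [smul_mk, show phi f (MvPolynomial.X i) = Polynomial.monomial 1 (f i) by
        simp [phi, Polynomial.C_mul_X_eq_monomial], PolynomialModule.monomial_smul_lsingle, add_comm] at this

theorem mem_X_iff (x : E f M) : x ∈ X f M ↔ ∀ k, p f M k (c f M k x) = 0 := by
  constructor
  · intro hx
    suffices ∀ z, mk f M z = x → z ∈ fil f M 0 by
      obtain ⟨z, rfl⟩ := mk_surjective f M x
      intro k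
      rw [c_mk]
      exact (Submodule.Quotient.mk_eq_zero _).2 (by simpa using this z rfl k)
    have hfil : ∀ z z', mk f M z = mk f M z' → z' ∈ fil f M 0 → z ∈ fil f M 0 := fun z z' h hz' k => by
      have h1 := ((Submodule.Quotient.eq _).1 h) k
      rw [← sub_add_cancel (z.coeff k) (z'.coeff k)]
      exact add_mem (Submodule.smul_mono (Ideal.pow_le_pow_right (by omega)) le_rfl h1) (hz' k)
    induction hx using Submodule.span_induction with
    | mem x hx =>
      obtain ⟨m, rfl⟩ := hx
      refine fun z hz => hfil z _ hz fun k => ?_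
      rw [PolynomialModule.lsingle_apply]
      split_ifs with h
      · subst h; simp
      · exact zero_mem _
    | zero => exact fun z hz => hfil z 0 (hz.trans (map_zero _).symm) (zero_mem _)
    | add a b _ _ ha hb =>
      intro z hz
      obtain ⟨za, rfl⟩ := mk_surjective f M a
      obtain ⟨zb, rfl⟩ := mk_surjective f M b
      exact hfil z (za + zb) (hz.trans (map_add _ _ _).symm) (add_mem (ha za rfl) (hb zb rfl))
    | smul t a _ ha =>
      intro z hz
      obtain ⟨za, rfl⟩ := mk_surjective f M a
      exact hfil z _ (hz.trans (smul_mk f M t za)) (phi_smul_mem f M t (ha za rfl))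
  · intro hx
    obtain ⟨F, hF⟩ := (decomp (R := B) f M).sum x
    rw [hF]
    refine Submodule.sum_mem _ fun k _ => ?_
    obtain ⟨z, rfl⟩ := mk_surjective f M x
    show s f M k (c f M k (mk f M z)) ∈ X f M
    rw [c_mk, s_mk]
    refine single_mem_X f M k _ ((Submodule.Quotient.mk_eq_zero _).1 ?_)
    exact hx k

theorem sys : Sys (R := R) (p f M) (fun k => (c f M k).restrictScalars R) (fun k => (s f M k).restrictScalars R) (X f M) :=
  ⟨decomp f M, p_surjective f M, mem_X_iff f M⟩

instance [Module.Finite B M] : Module.Finite (MvPolynomial (Fin r) B) (X f M) := by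
  classical
  rw [Module.Finite.iff_fg]
  obtain ⟨t, ht⟩ := (Module.Finite.fg_top : (⊤ : Submodule B M).FG)
  refine ⟨t.image fun m => mk f M (PolynomialModule.lsingle B 0 m), le_antisymm ?_ (Submodule.span_le.2 ?_)⟩
  · rw [Finset.coe_image, Submodule.span_le]
    exact Set.image_subset_iff.2 fun m _ => Submodule.subset_span ⟨m, rfl⟩
  · rintro _ ⟨m, rfl⟩
    have hm : m ∈ Submodule.span B (t : Set M) := ht ▸ Submodule.mem_top
    induction hm using Submodule.span_induction with
    | mem m hm => exact Submodule.subset_span (Finset.mem_image_of_mem _ hm)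
    | zero => show mk f M (PolynomialModule.lsingle B 0 0) ∈ _; rw [map_zero, map_zero]; exact zero_mem _
    | add a b _ _ ha hb =>
      show mk f M (PolynomialModule.lsingle B 0 (a + b)) ∈ _
      rw [map_add, map_add]; exact add_mem ha hb
    | smul b a _ ha =>
      show mk f M (PolynomialModule.lsingle B 0 (b • a)) ∈ _
      rw [map_smul, map_smul, ← algebraMap_smul (MvPolynomial (Fin r) B) b]
      exact Submodule.smul_mem _ _ ha

/-- **EGA IV 11.2.9** for the filtration by powers of an ideal. -/
theorem exists_stage [IsNoetherianRing R] [Algebra.FiniteType R B] [Module.Finite B M]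
    (A : Type u) [CommRing A] [Algebra R A] (hA : ∀ k, Module.Flat A (A ⊗[R] T f M k)) :
    ∃ S : Subalgebra R A, S.FG ∧ ∀ k, Module.Flat S (S ⊗[R] T f M k) := by
  have : Algebra.FiniteType R (MvPolynomial (Fin r) B) := Algebra.FiniteType.trans ‹_› inferInstance
  have := hA
  exact GrFlat.exists_stage (sys f M) A

end Groth.Agent.EGA43.GrFlat.Filt
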