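import Groth.Agent.EGA43.GrFlat.Sys
import Mathlib.RingTheory.TensorProduct.DirectLimitFG

/-!
# Stages at which the graded part commutes with the fibres
-/

universe u

set_option autoImplicit false
set_option backward.isDefEq.respectTransparency false

open TensorProduct Function

namespace Groth.Agent.EGA43.GrFlat

attribute [local instance] FlatDescent.bcModule

variable {R : Type u} [CommRing R] {B C : Type u} [CommRing B] [CommRing C] [Algebra R B] [Algebra R C]
  {T : ℕ → Type u} [∀ k, AddCommGroup (T k)] [∀ k, Module R (T k)] [∀ k, Module B (T k)]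
  [∀ k, IsScalarTower R B (T k)]
  {E : Type u} [AddCommGroup E] [Module R E] [Module C E] [IsScalarTower R C E]
  {p : ∀ k, T (k + 1) →ₗ[B] T k} {c : ∀ k, E →ₗ[R] T (k + 1)}
  {s : ∀ k, T (k + 1) →ₗ[R] E} {X : Submodule C E} (h : Sys p c s X)

section Maps

variable (S : Type u) [CommRing S] [Algebra R S]

/-- The inclusion. -/
abbrev incR (X : Submodule C E) : X →ₗ[R] E := X.subtype.restrictScalars R

/-- The graded part over `S` is the image of that over `R`. -/
noncomputable def rho : S ⊗[R] X →ₗ[S] grBC p c S :=
  LinearMap.codRestrict (grBC p c S) ((incR (R := R) X).baseChange S) fun w =>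
    h.range_bcMap S ▸ ⟨w, rfl⟩

theorem rho_surjective : Surjective (rho h S) := fun z => by
  obtain ⟨w, hw⟩ := (h.range_bcMap S).ge z.2
  exact ⟨w, Subtype.ext hw⟩

/-- `x ↦ 1 ⊗ x`. -/
noncomputable def piS : X →ₗ[R] grBC p c S := (rho h S).restrictScalars R ∘ₗ TensorProduct.mk R S X 1

theorem coe_piS (x : X) : (piS h S x : S ⊗[R] E) = (1 : S) ⊗ₜ[R] (x : E) := rfl

/-- The comparison at a field `K` over `S`. -/
noncomputable def sigma (K : Type u) [CommRing K] [Algebra R K] [Algebra S K] [IsScalarTower R S K] :
    K ⊗[R] X →ₗ[K] K ⊗[S] grBC p c S :=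
  ((TensorProduct.mk S K (grBC p c S) 1).restrictScalars R ∘ₗ piS h S).liftBaseChange K

theorem sigma_tmul (K : Type u) [CommRing K] [Algebra R K] [Algebra S K] [IsScalarTower R S K] (a : K) (x : X) :
    sigma h S K (a ⊗ₜ x) = a ⊗ₜ[S] piS h S x := by
  simp [sigma, TensorProduct.smul_tmul']

theorem sigma_surjective (K : Type u) [CommRing K] [Algebra R K] [Algebra S K] [IsScalarTower R S K] :
    Surjective (sigma h S K) := fun z => by
  induction z using TensorProduct.induction_on with
  | zero => exact ⟨0, map_zero _⟩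
  | add a b ha hb =>
    obtain ⟨u, rfl⟩ := ha
    obtain ⟨v, rfl⟩ := hb
    exact ⟨u + v, map_add _ _ _⟩
  | tmul a y =>
    obtain ⟨w, rfl⟩ := rho_surjective h S y
    induction w using TensorProduct.induction_on with
    | zero => exact ⟨0, by simp⟩
    | add x y hx hy =>
      obtain ⟨u, hu⟩ := hx
      obtain ⟨v, hv⟩ := hy
      exact ⟨u + v, by rw [map_add, map_add, hu, hv, tmul_add]⟩
    | tmul b x =>
      refine ⟨(b • a) ⊗ₜ x, ?_⟩
      rw [sigma_tmul, TensorProduct.smul_tmul]
      congr 1
      rw [show b ⊗ₜ[R] x = b • ((1 : S) ⊗ₜ[R] x) by simp [TensorProduct.smul_tmul'], map_smul]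
      rfl

end Maps

/-- At the field `K`, what dies in the fibre already dies in the graded part over `S`. -/
def GoodAt (S : Type u) [CommRing S] [Algebra R S] (K : Type u) [CommRing K] [Algebra R K]
    [Algebra S K] [IsScalarTower R S K] : Prop :=
  ∀ w : K ⊗[R] X, (incR (R := R) X).lTensor K w = 0 → sigma h S K w = 0

/-- Transition between two stages. -/
noncomputable def trans {S S' : Type u} [CommRing S] [Algebra R S] [CommRing S'] [Algebra R S']
    (j : S →ₐ[R] S') : grBC p c S →ₗ[R] grBC p c S' where
  toFun z := ⟨j.toLinearMap.rTensor E z.1, by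
    have hz := (mem_gr _ _).1 z.2
    rw [mem_gr]
    intro k
    have key : ∀ w : S ⊗[R] E, (pR (R := R) p k).baseChange S' ((c k).baseChange S' (j.toLinearMap.rTensor E w)) =
        j.toLinearMap.rTensor (T k) ((pR (R := R) p k).baseChange S ((c k).baseChange S w)) := fun w => by
      induction w using TensorProduct.induction_on with
      | zero => simp
      | add a b ha hb => simp only [map_add, ha, hb]
      | tmul a x => simp
    rw [key, hz k, map_zero]⟩
  map_add' _ _ := Subtype.ext (map_add _ _ _)
  map_smul' _ _ := Subtype.ext (map_smul _ _ _)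

theorem trans_piS {S S' : Type u} [CommRing S] [Algebra R S] [CommRing S'] [Algebra R S']
    (j : S →ₐ[R] S') (x : X) : trans j (piS h S x) = piS h S' x :=
  Subtype.ext (by simp [trans, coe_piS])

theorem GoodAt.mono {S S' : Type u} [CommRing S] [Algebra R S] [CommRing S'] [Algebra R S'] (j : S →ₐ[R] S')
    {K : Type u} [CommRing K] [Algebra R K] [Algebra S' K] [IsScalarTower R S' K]
    (hK : ∀ [Algebra S K] [IsScalarTower R S K], GoodAt h S K) : GoodAt h S' K := by
  let _ : Algebra S K := ((algebraMap S' K).comp j.toRingHom).toAlgebra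
  have : IsScalarTower R S K := .of_algebraMap_eq fun r => by
    show algebraMap R K r = algebraMap S' K (j (algebraMap R S r))
    rw [j.commutes, ← IsScalarTower.algebraMap_apply]
  have hsmul : ∀ (a : S) (m : K ⊗[S'] grBC p c S'), a • m = j a • m := fun a m => by
    induction m using TensorProduct.induction_on with
    | zero => simp
    | add x y hx hy => rw [smul_add, smul_add, hx, hy]
    | tmul b y =>
      rw [TensorProduct.smul_tmul', TensorProduct.smul_tmul', Algebra.smul_def, Algebra.smul_def]
      rfl
  have hj : ∀ (a : S) (y : grBC p c S), trans j (a • y) = j a • trans j y := fun a y => Subtype.ext (by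
    show j.toLinearMap.rTensor E (a • y.1) = j a • j.toLinearMap.rTensor E y.1
    generalize y.1 = w
    induction w using TensorProduct.induction_on with
    | zero => simp
    | add a b ha hb => simp only [smul_add, map_add, ha, hb]
    | tmul b x => simp [TensorProduct.smul_tmul'])
  let β : K →ₗ[S] grBC p c S →ₗ[S] K ⊗[S'] grBC p c S' := LinearMap.mk₂ S (fun a y => a ⊗ₜ trans j y)
    (fun a b y => add_tmul a b _)
    (fun a b y => by
      rw [hsmul, TensorProduct.smul_tmul', Algebra.smul_def, Algebra.smul_def]
      rfl)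
    (fun a y z => by rw [map_add, tmul_add])
    (fun a b y => by rw [hsmul, hj, tmul_smul])
  intro w hw
  have key : ∀ w, TensorProduct.lift β (sigma h S K w) = sigma h S' K w := fun w => by
    induction w using TensorProduct.induction_on with
    | zero => simp
    | add a b ha hb => simp only [map_add, ha, hb]
    | tmul a x => simp [sigma_tmul, β, trans_piS]
  rw [← key, @hK _ inferInstance w hw, map_zero]

theorem rho_natural {S S' : Type u} [CommRing S] [Algebra R S] [CommRing S'] [Algebra R S']
    (j : S →ₐ[R] S') :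
    (rho h S').restrictScalars R ∘ₗ j.toLinearMap.rTensor X =
      trans (p := p) (c := c) j ∘ₗ (rho h S).restrictScalars R :=
  TensorProduct.ext' fun a x => Subtype.ext rfl

omit [∀ k, Module B (T k)] [∀ k, IsScalarTower R B (T k)] in
theorem leftComm_natural {V M S S' : Type u} [AddCommGroup V] [Module R V] [AddCommGroup M] [Module R M]
    [AddCommGroup S] [Module R S] [AddCommGroup S'] [Module R S'] (f : S →ₗ[R] S') (z : V ⊗[R] (S ⊗[R] M)) :
    f.rTensor (V ⊗[R] M) (TensorProduct.leftComm R V S M z) =
      TensorProduct.leftComm R V S' M ((f.rTensor M).lTensor V z) := by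
  induction z using TensorProduct.induction_on with
  | zero => simp
  | add a b ha hb => simp only [map_add, ha, hb]
  | tmul v y =>
    induction y using TensorProduct.induction_on with
    | zero => simp
    | add a b ha hb => simp only [tmul_add, map_add, ha, hb]
    | tmul a x => simp

omit [∀ k, Module B (T k)] [∀ k, IsScalarTower R B (T k)] in
theorem exists_lTensor_ker_eq {M N : Type u} [AddCommMonoid M] [Module R M] [AddCommMonoid N] [Module R N]
    (f : M →ₗ[R] N) (hf : Surjective f) (V : Type u) [AddCommGroup V] [Module R V] (z : V ⊗[R] M)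
    (hz : f.lTensor V z = 0) : ∃ w, (LinearMap.ker f).subtype.lTensor V w = z :=
  letI : AddCommGroup M := Module.addCommMonoidToAddCommGroup R
  letI : AddCommGroup N := Module.addCommMonoidToAddCommGroup R
  have hex : Exact ((LinearMap.ker f).subtype.lTensor V) (f.lTensor V) :=
    lTensor_exact (M := ↥(LinearMap.ker f)) V (LinearMap.exact_subtype_ker_map f) hf
  (hex z).1 hz

section Kill

variable {A : Type u} [CommRing A] [Algebra R A]

/-- Relations over `A` lift to a stage. -/
theorem exists_stage_lift (V : Type u) [AddCommGroup V] [Module R V]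
    (w : V ⊗[R] LinearMap.ker ((rho h A).restrictScalars R)) :
    ∃ (S : Subalgebra R A) (_ : S.FG) (x : V ⊗[R] (S ⊗[R] X)),
      ((rho h S).restrictScalars R).lTensor V x = 0 ∧
      (S.val.toLinearMap.rTensor X).lTensor V x =
        (LinearMap.ker ((rho h A).restrictScalars R)).subtype.lTensor V w := by
  induction w using TensorProduct.induction_on with
  | zero => exact ⟨⊥, Subalgebra.fg_bot, 0, map_zero _, by rw [map_zero, map_zero]⟩
  | tmul v y =>
    obtain ⟨S, hS, y', hy'⟩ := TensorProduct.Algebra.exists_of_fg (S := A) y.1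
    have hy0 : (rho h A).restrictScalars R (S.val.toLinearMap.rTensor X y') = 0 := by
      rw [hy']; exact LinearMap.mem_ker.1 y.2
    have h0 : S.val.toLinearMap.rTensor E (((rho h S).restrictScalars R y').1) =
        S.val.toLinearMap.rTensor E 0 := by
      rw [map_zero]
      exact congrArg Subtype.val ((LinearMap.congr_fun (rho_natural h S.val) y').symm.trans hy0)
    obtain ⟨S', hSS', hS', he⟩ := TensorProduct.Algebra.eq_of_fg_of_subtype_eq hS h0
    refine ⟨S', hS', v ⊗ₜ (Subalgebra.inclusion hSS').toLinearMap.rTensor X y', ?_, ?_⟩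
    · have h5 : (rho h S').restrictScalars R ((Subalgebra.inclusion hSS').toLinearMap.rTensor X y') = 0 := by
        refine (LinearMap.congr_fun (rho_natural h (Subalgebra.inclusion hSS')) y').trans (Subtype.ext ?_)
        rw [map_zero] at he
        exact he
      rw [LinearMap.lTensor_tmul, h5, TensorProduct.tmul_zero]
    · rw [LinearMap.lTensor_tmul, LinearMap.lTensor_tmul, ← LinearMap.rTensor_comp_apply]
      exact congrArg (v ⊗ₜ[R] ·) hy'
  | add a b ha hb =>
    obtain ⟨S₁, hS₁, x₁, hx₁, hx₁'⟩ := ha
    obtain ⟨S₂, hS₂, x₂, hx₂, hx₂'⟩ := hb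
    have push : ∀ {S S' : Subalgebra R A} (hle : S ≤ S') (x : V ⊗[R] (S ⊗[R] X)),
        ((rho h S).restrictScalars R).lTensor V x = 0 →
        ((rho h S').restrictScalars R).lTensor V (((Subalgebra.inclusion hle).toLinearMap.rTensor X).lTensor V x) = 0 := by
      intro S S' hle x hx
      rw [← LinearMap.lTensor_comp_apply, rho_natural h, LinearMap.lTensor_comp_apply, hx, map_zero]
    have hval : ∀ {S S' : Subalgebra R A} (hle : S ≤ S') (x : V ⊗[R] (S ⊗[R] X)),
        (S'.val.toLinearMap.rTensor X).lTensor V (((Subalgebra.inclusion hle).toLinearMap.rTensor X).lTensor V x) =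
          (S.val.toLinearMap.rTensor X).lTensor V x := fun {S S'} hle x => by
      rw [← LinearMap.lTensor_comp_apply, ← LinearMap.rTensor_comp]
      rfl
    refine ⟨S₁ ⊔ S₂, hS₁.sup hS₂,
      ((Subalgebra.inclusion (le_sup_left : S₁ ≤ S₁ ⊔ S₂)).toLinearMap.rTensor X).lTensor V x₁ +
        ((Subalgebra.inclusion (le_sup_right : S₂ ≤ S₁ ⊔ S₂)).toLinearMap.rTensor X).lTensor V x₂, ?_, ?_⟩
    · rw [map_add, push _ _ hx₁, push _ _ hx₂, add_zero]
    · rw [map_add, map_add, hval, hval, hx₁', hx₂']

variable [∀ k, Module.Flat A (A ⊗[R] T k)]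

/-- An element dying in `V ⊗ E` dies in `V ⊗ gr_S` for some stage `S`. -/
theorem exists_stage_kill (V : Type u) [AddCommGroup V] [Module R V] (n : V ⊗[R] X)
    (hn : (incR (R := R) X).lTensor V n = 0) :
    ∃ S : Subalgebra R A, S.FG ∧ (piS h S).lTensor V n = 0 := by
  let mkA : X →ₗ[R] A ⊗[R] X := TensorProduct.mk R A X 1
  let ρA := (rho h A).restrictScalars R
  have h1 : ρA.lTensor V (mkA.lTensor V n) = 0 := by
    have hcomp : ((grBC p c A).subtype.restrictScalars R ∘ₗ ρA) ∘ₗ mkA =
        TensorProduct.mk R A E 1 ∘ₗ incR (R := R) X := LinearMap.ext fun x => rfl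
    have h0 : ((grBC p c A).subtype.restrictScalars R).lTensor V (ρA.lTensor V (mkA.lTensor V n)) = 0 := by
      rw [← LinearMap.lTensor_comp_apply, ← LinearMap.lTensor_comp_apply, hcomp, LinearMap.lTensor_comp_apply,
        hn, map_zero]
    exact (injective_iff_map_eq_zero _).1 (h.lTensor_grBC_injective A V) _ h0
  have hsurj : Surjective ρA := rho_surjective h A
  obtain ⟨w, hw⟩ := exists_lTensor_ker_eq ρA hsurj V (mkA.lTensor V n) h1
  obtain ⟨S₀, hS₀, x, hx, hxw⟩ := exists_stage_lift h V w
  let m₀ := (TensorProduct.mk R S₀ X 1).lTensor V n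
  have hm : (S₀.val.toLinearMap.rTensor X).lTensor V m₀ = mkA.lTensor V n := by
    rw [← LinearMap.lTensor_comp_apply]
    rfl
  obtain ⟨S, hle, hS, heq⟩ := TensorProduct.Algebra.eq_of_fg_of_subtype_eq hS₀
    (t := TensorProduct.leftComm R V S₀ X m₀) (t' := TensorProduct.leftComm R V S₀ X x)
    (by rw [leftComm_natural, leftComm_natural, hm, hxw, hw])
  refine ⟨S, hS, ?_⟩
  have h2 : ((Subalgebra.inclusion hle).toLinearMap.rTensor X).lTensor V m₀ =
      ((Subalgebra.inclusion hle).toLinearMap.rTensor X).lTensor V x :=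
    (TensorProduct.leftComm R V S X).injective (by rw [← leftComm_natural, ← leftComm_natural, heq])
  have hnat : ∀ z : V ⊗[R] (S₀ ⊗[R] X),
      ((rho h S).restrictScalars R).lTensor V (((Subalgebra.inclusion hle).toLinearMap.rTensor X).lTensor V z) =
        (trans (p := p) (c := c) (Subalgebra.inclusion hle)).lTensor V (((rho h S₀).restrictScalars R).lTensor V z) := fun z => by
    rw [← LinearMap.lTensor_comp_apply, ← LinearMap.lTensor_comp_apply, rho_natural h]
  have h4 := congrArg (((rho h S).restrictScalars R).lTensor V) h2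
  rw [hnat, hnat, hx, map_zero] at h4
  rw [← h4, ← LinearMap.lTensor_comp_apply, ← LinearMap.lTensor_comp_apply]
  refine congrArg (fun φ : X →ₗ[R] grBC p c S => φ.lTensor V n) (LinearMap.ext fun y => ?_)
  show piS h S y = trans (Subalgebra.inclusion hle) (piS h S₀ y)
  rw [trans_piS]

end Kill

end Groth.Agent.EGA43.GrFlat
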