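import Groth.Agent.EGA43.GrFlat.Krull
import Mathlib.RingTheory.Polynomial.Basic

/-!
# The graded module is finitely presented when its pieces are flat (EGA IV 11.3.14)
-/

universe u

set_option autoImplicit false
set_option backward.isDefEq.respectTransparency false

open TensorProduct Function

namespace Groth.Agent.EGA43.GrFlat.Pres

variable {R A P B M' M : Type u} [CommRing R] [CommRing A] [CommRing P] [CommRing B]
  [Algebra R A] [Algebra R P] [Algebra A B] [Algebra R B] [Algebra P B] [IsScalarTower R A B] [IsScalarTower R P B]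
  [AddCommGroup M'] [Module P M'] [Module R M'] [IsScalarTower R P M']
  [AddCommGroup M] [Module B M] [Module A M] [Module R M] [Module P M]
  [IsScalarTower A B M] [IsScalarTower R B M] [IsScalarTower P B M] [IsScalarTower R A M] [IsScalarTower R P M]
  {r : ℕ} (f : Fin r → P) (g : Fin r → B) (hfg : ∀ i, algebraMap P B (f i) = g i) (j : M' →ₗ[P] M)

include hfg in
theorem map_mem (d : ℕ) {m : M'} (hm : m ∈ Filt.J f ^ d • (⊤ : Submodule P M')) :
    j m ∈ Filt.J g ^ d • (⊤ : Submodule B M) := by
  refine Submodule.smul_induction_on hm (fun a ha m _ => ?_) (fun x y hx hy => by rw [map_add]; exact add_mem hx hy)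
  rw [map_smul, ← algebraMap_smul B a]
  refine Submodule.smul_mem_smul ?_ trivial
  have h : Ideal.map (algebraMap P B) (Filt.J f) = Filt.J g := by
    rw [Filt.J, Ideal.map_span, ← Set.range_comp, show algebraMap P B ∘ f = g from funext hfg]
  rw [← h, ← Ideal.map_pow]
  exact Ideal.mem_map_of_mem _ ha

/-- The induced map on truncations. -/
def jT (k : ℕ) : Filt.T f M' k →ₗ[P] Filt.T g M k :=
  (Filt.J f ^ k • (⊤ : Submodule P M')).liftQ (((Filt.J g ^ k • (⊤ : Submodule B M)).mkQ.restrictScalars P) ∘ₗ j)
    fun _ hm => LinearMap.mem_ker.2 ((Submodule.Quotient.mk_eq_zero _).2 (map_mem f g hfg j k hm))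

/-- The induced map on the ambient modules. -/
noncomputable def jE : Filt.E f M' →ₗ[P] Filt.E g M :=
  (Filt.fil f M' 1).liftQ ((Filt.mk g M).restrictScalars P ∘ₗ PolynomialModule.map B j) fun z hz =>
    LinearMap.mem_ker.2 ((Submodule.Quotient.mk_eq_zero _).2 fun k => map_mem f g hfg j (k + 1) (hz k))

theorem jE_mk (z : PolynomialModule P M') :
    jE f g hfg j (Filt.mk f M' z) = Filt.mk g M (PolynomialModule.map B j z) := rfl

theorem c_jE (k : ℕ) (x : Filt.E f M') :
    Filt.c g M k (jE f g hfg j x) = jT f g hfg j (k + 1) (Filt.c f M' k x) := by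
  obtain ⟨z, rfl⟩ := Filt.mk_surjective f M' x
  rfl

include hfg in
theorem phi_map (t : MvPolynomial (Fin r) P) :
    Filt.phi g (MvPolynomial.map (algebraMap P B) t) = (Filt.phi f t).map (algebraMap P B) := by
  induction t using MvPolynomial.induction_on with
  | C a => simp [Filt.phi]
  | add a b ha hb => simp only [map_add, Polynomial.map_add, ha, hb]
  | mul_X a i ha =>
    rw [map_mul, map_mul, map_mul, Polynomial.map_mul, ha, MvPolynomial.map_X]
    congr 1
    simp [Filt.phi, ← hfg]

theorem jE_smul (t : MvPolynomial (Fin r) P) (x : Filt.E f M') :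
    jE f g hfg j (t • x) = MvPolynomial.map (algebraMap P B) t • jE f g hfg j x := by
  obtain ⟨z, rfl⟩ := Filt.mk_surjective f M' x
  rw [Filt.smul_mk, jE_mk, jE_mk, Filt.smul_mk, PolynomialModule.map_smul, phi_map f g hfg]

theorem jE_mem (x : Filt.E f M') (hx : x ∈ Filt.X f M') : jE f g hfg j x ∈ Filt.X g M := by
  induction hx using Submodule.span_induction with
  | zero => rw [map_zero]; exact zero_mem _
  | add a b _ _ ha hb => rw [map_add]; exact add_mem ha hb
  | smul t a _ ha => rw [jE_smul]; exact Submodule.smul_mem _ _ ha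
  | mem x hx =>
    obtain ⟨m, rfl⟩ := hx
    refine Submodule.subset_span ⟨j m, ?_⟩
    show _ = jE f g hfg j (Filt.mk f M' _)
    rw [jE_mk, PolynomialModule.map_lsingle]

omit [Algebra R A] [Algebra A B] [IsScalarTower R A B] [IsScalarTower R P B] [AddCommGroup M'] [Module P M']
  [Module R M'] [IsScalarTower R P M'] [Module A M] [IsScalarTower A B M] [IsScalarTower R A M] in
theorem isScalarTower_E : IsScalarTower R P (Filt.E g M) :=
  ⟨fun x y z => by
    obtain ⟨z, rfl⟩ := Filt.mk_surjective g M z
    exact congrArg (Filt.mk g M) (PolynomialModule.ext (Finsupp.ext fun k => smul_assoc x y (z.coeff k)))⟩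

attribute [local instance] isScalarTower_E

/-- The comparison map. -/
noncomputable def Phi : A ⊗[R] Filt.E f M' →ₗ[R] Filt.E g M :=
  TensorProduct.lift (LinearMap.mk₂ R (fun a x => algebraMap A B a • jE f g hfg j x)
    (fun a b x => by rw [map_add, add_smul])
    (fun c a x => by rw [Algebra.smul_def, map_mul, mul_smul, ← IsScalarTower.algebraMap_apply R A B, algebraMap_smul])
    (fun a x y => by rw [map_add, smul_add])
    (fun c a x => by rw [LinearMap.map_smul_of_tower, smul_comm]))

theorem Phi_tmul (a : A) (x : Filt.E f M') :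
    Phi f g hfg j (a ⊗ₜ[R] x) = algebraMap A B a • jE f g hfg j x := rfl

variable (hT : ∀ k, ∃ Φk : A ⊗[R] Filt.T f M' k →ₗ[R] Filt.T g M k, Injective Φk ∧
  ∀ a y, Φk (a ⊗ₜ y) = algebraMap A B a • jT f g hfg j k y)

include hT in
theorem Phi_injective : Injective (Phi (A := A) (R := R) f g hfg j) := by
  rw [injective_iff_map_eq_zero]
  intro z hz
  obtain ⟨F, hF⟩ := ((Filt.decomp (R := R) f M').baseChange A).sum z
  rw [hF]
  refine Finset.sum_eq_zero fun k _ => ?_
  suffices ((Filt.c f M' k).restrictScalars R).baseChange A z = 0 by rw [this, map_zero]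
  obtain ⟨Φk, hinj, hΦk⟩ := hT (k + 1)
  apply hinj
  rw [map_zero]
  have key : ∀ z, Φk (((Filt.c f M' k).restrictScalars R).baseChange A z) = Filt.c g M k (Phi f g hfg j z) := fun z => by
    induction z using TensorProduct.induction_on with
    | zero => simp
    | add a b ha hb => simp only [map_add, ha, hb]
    | tmul a x =>
      rw [LinearMap.baseChange_tmul, hΦk, Phi_tmul, map_smul, c_jE]
      rfl
  rw [key, hz, map_zero]

include hT in
theorem finitePresentation_X [IsNoetherianRing R] [Algebra.FiniteType R P] [Module.Finite P M']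
    [∀ k, Module.Flat R (Filt.T f M' k)]
    (hB : ∀ b : B, b ∈ Submodule.span A (Set.range (algebraMap P B)))
    (hM : ∀ m : M, m ∈ Submodule.span A (Set.range j)) :
    Module.FinitePresentation (MvPolynomial (Fin r) B) (Filt.X g M) := by
  classical
  have : IsNoetherianRing P := Algebra.FiniteType.isNoetherianRing R P
  let _ : Algebra (MvPolynomial (Fin r) P) (MvPolynomial (Fin r) B) := (MvPolynomial.map (algebraMap P B)).toAlgebra
  let _ : Module (MvPolynomial (Fin r) P) (Filt.X g M) :=
    Module.compHom _ (MvPolynomial.map (σ := Fin r) (algebraMap P B))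
  have : IsScalarTower (MvPolynomial (Fin r) P) (MvPolynomial (Fin r) B) (Filt.X g M) :=
    IsScalarTower.of_algebraMap_smul fun _ _ => rfl
  have : Module.FinitePresentation (MvPolynomial (Fin r) P) (Filt.X f M') := Module.finitePresentation_of_finite _ _
  let jX : Filt.X f M' →ₗ[MvPolynomial (Fin r) P] Filt.X g M :=
    { toFun := fun x => ⟨jE f g hfg j x, jE_mem f g hfg j x x.2⟩
      map_add' := fun x y => Subtype.ext (map_add _ _ _)
      map_smul' := fun t x => Subtype.ext (jE_smul f g hfg j t x) }
  let Λ := jX.liftBaseChange (MvPolynomial (Fin r) B)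
  have hΛ : ∀ b x, Λ (b ⊗ₜ x) = b • jX x := fun b x => LinearMap.liftBaseChange_tmul _ _ _ _
  have hsurj : Surjective Λ := by
    rw [← LinearMap.range_eq_top, eq_top_iff]
    rintro ⟨x, hx⟩ -
    induction hx using Submodule.span_induction with
    | zero => exact zero_mem _
    | add a b ha hb ha' hb' => exact add_mem ha' hb'
    | smul t a ha ha' => exact Submodule.smul_mem _ t ha'
    | mem x hx =>
      obtain ⟨m, rfl⟩ := hx
      have hm : ∀ m, ∃ w, (Λ w : Filt.E g M) = Filt.mk g M (PolynomialModule.lsingle B 0 m) := fun m => by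
        induction hM m using Submodule.span_induction with
        | zero => exact ⟨0, by rw [map_zero, map_zero, map_zero]; rfl⟩
        | add a b _ _ ha hb =>
          obtain ⟨u, hu⟩ := ha
          obtain ⟨v, hv⟩ := hb
          exact ⟨u + v, by rw [map_add, Submodule.coe_add, hu, hv, map_add, map_add]⟩
        | smul a m _ ha =>
          obtain ⟨u, hu⟩ := ha
          refine ⟨(MvPolynomial.C (algebraMap A B a) : MvPolynomial (Fin r) B) • u, ?_⟩
          rw [map_smul, Submodule.coe_smul, hu, ← algebraMap_smul B a m, map_smul, map_smul,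
            ← MvPolynomial.algebraMap_eq, algebraMap_smul]
        | mem m hm =>
          obtain ⟨m, rfl⟩ := hm
          refine ⟨1 ⊗ₜ ⟨_, Submodule.subset_span ⟨m, rfl⟩⟩, ?_⟩
          rw [hΛ, one_smul]
          show jE f g hfg j (Filt.mk f M' _) = _
          rw [jE_mk, PolynomialModule.map_lsingle]
      obtain ⟨w, hw⟩ := hm m
      exact ⟨w, Subtype.ext hw⟩
  let ι : A ⊗[R] Filt.X f M' → MvPolynomial (Fin r) B ⊗[MvPolynomial (Fin r) P] Filt.X f M' := fun z =>
    TensorProduct.liftAddHom
      { toFun := fun a =>
          { toFun := fun x => MvPolynomial.C (algebraMap A B a) ⊗ₜ x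
            map_zero' := tmul_zero _ _
            map_add' := fun x y => tmul_add _ x y }
        map_zero' := AddMonoidHom.ext fun x => by simp
        map_add' := fun a b => AddMonoidHom.ext fun x => by simp [add_tmul] }
      (fun c a x => by
        show MvPolynomial.C (algebraMap A B (c • a)) ⊗ₜ[MvPolynomial (Fin r) P] x =
          MvPolynomial.C (algebraMap A B a) ⊗ₜ (c • x)
        rw [← algebraMap_smul (MvPolynomial (Fin r) P) c x, ← TensorProduct.smul_tmul]
        congr 1
        rw [Algebra.smul_def, Algebra.smul_def, map_mul, map_mul, ← IsScalarTower.algebraMap_apply R A B,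
          RingHom.algebraMap_toAlgebra, IsScalarTower.algebraMap_apply R P (MvPolynomial (Fin r) P),
          MvPolynomial.algebraMap_eq, MvPolynomial.map_C, ← IsScalarTower.algebraMap_apply R P B]) z
  have hι : ∀ a x, ι (a ⊗ₜ x) = MvPolynomial.C (algebraMap A B a) ⊗ₜ x := fun a x => rfl
  have hιadd : ∀ x y, ι (x + y) = ι x + ι y := fun x y => map_add _ x y
  have hιsurj : Surjective ι := fun w => by
    induction w using TensorProduct.induction_on with
    | zero => exact ⟨0, map_zero _⟩
    | add a b ha hb =>
      obtain ⟨u, rfl⟩ := ha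
      obtain ⟨v, rfl⟩ := hb
      exact ⟨u + v, hιadd u v⟩
    | tmul b x =>
      induction b using MvPolynomial.induction_on generalizing x with
      | C b =>
        induction hB b using Submodule.span_induction with
        | zero => exact ⟨0, (map_zero _).trans (by simp)⟩
        | add a b _ _ ha hb =>
          obtain ⟨u, hu⟩ := ha
          obtain ⟨v, hv⟩ := hb
          exact ⟨u + v, by rw [hιadd, hu, hv, map_add, add_tmul]⟩
        | smul a b _ hb =>
          obtain ⟨u, hu⟩ := hb
          refine ⟨(LinearMap.lsmul A A a).restrictScalars R |>.rTensor _ u, ?_⟩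
          have hmul : ∀ u, ι (((LinearMap.lsmul A A a).restrictScalars R).rTensor _ u) =
              (MvPolynomial.C (algebraMap A B a) : MvPolynomial (Fin r) B) • ι u := fun u => by
            induction u using TensorProduct.induction_on with
            | zero => rw [map_zero, show ι 0 = 0 from map_zero _, smul_zero]
            | add u v hu hv => rw [map_add, hιadd, hιadd, hu, hv, smul_add]
            | tmul c y =>
              rw [LinearMap.rTensor_tmul, hι, hι, TensorProduct.smul_tmul']
              congr 1
              rw [smul_eq_mul, ← map_mul, ← map_mul]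
              rfl
          rw [hmul, hu, TensorProduct.smul_tmul', Algebra.smul_def a b, map_mul]
          rfl
        | mem b hb =>
          obtain ⟨p, rfl⟩ := hb
          refine ⟨1 ⊗ₜ ((MvPolynomial.C p : MvPolynomial (Fin r) P) • x), ?_⟩
          rw [hι, ← TensorProduct.smul_tmul, Algebra.smul_def, RingHom.algebraMap_toAlgebra, MvPolynomial.map_C,
            map_one, MvPolynomial.C_1, mul_one]
      | add a b ha hb =>
        obtain ⟨u, hu⟩ := ha x
        obtain ⟨v, hv⟩ := hb x
        exact ⟨u + v, by rw [hιadd, hu, hv, add_tmul]⟩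
      | mul_X b i hb =>
        obtain ⟨u, hu⟩ := hb ((MvPolynomial.X i : MvPolynomial (Fin r) P) • x)
        refine ⟨u, hu.trans ?_⟩
        rw [← TensorProduct.smul_tmul, Algebra.smul_def, RingHom.algebraMap_toAlgebra, MvPolynomial.map_X, mul_comm]
  have hinj : Injective Λ := by
    have h := Filt.sys (R := R) f M'
    have hsub : Injective ((incR (R := R) (Filt.X f M')).lTensor A) := by
      have h1 := lTensor_subtype_injective (pR (R := R) (Filt.p f M')) h.decomp A fun k =>
        lTensor_ker_injective (pR (R := R) (Filt.p f M') k) (h.surj k) A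
      intro x y hxy
      refine (LinearEquiv.lTensor A h.equivGr).injective (h1 ?_)
      rw [← LinearEquiv.coe_coe, LinearEquiv.coe_lTensor, ← LinearMap.lTensor_comp_apply, ← LinearMap.lTensor_comp_apply]
      exact hxy
    have key : ∀ z, (Λ (ι z) : Filt.E g M) = Phi f g hfg j ((incR (R := R) (Filt.X f M')).lTensor A z) := fun z => by
      induction z using TensorProduct.induction_on with
      | zero => rw [show ι 0 = 0 from map_zero _, map_zero, map_zero, map_zero]; rfl
      | add a b ha hb => rw [hιadd, map_add, map_add, map_add, Submodule.coe_add, ha, hb]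
      | tmul a x =>
        rw [hι, hΛ, LinearMap.lTensor_tmul, Phi_tmul, Submodule.coe_smul, ← MvPolynomial.algebraMap_eq,
          algebraMap_smul]
        rfl
    rw [injective_iff_map_eq_zero]
    intro w hw
    obtain ⟨z, rfl⟩ := hιsurj w
    have h2 := key z
    rw [hw] at h2
    rw [hsub ((Phi_injective f g hfg j hT) (h2.symm.trans (map_zero _).symm) |>.trans (map_zero _).symm)]
    exact map_zero _
  exact Module.finitePresentation_of_surjective Λ hsurj (by
    rw [LinearMap.ker_eq_bot.2 hinj]; exact Submodule.fg_bot)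

end Groth.Agent.EGA43.GrFlat.Pres
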