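import Groth.Agent.EGA43.GrFlat.Filt
import Groth.Agent.EGA43.GrFlat.Fibre
import Groth.Agent.EGA43.GrFlat.Stage
import Mathlib.AlgebraicGeometry.Morphisms.Immersion
import Mathlib.RingTheory.Ideal.MinimalPrime.Noetherian

/-!
# Affine stratification with flat graded quotients
-/

universe u

set_option autoImplicit false
set_option backward.isDefEq.respectTransparency false

open TensorProduct Function AlgebraicGeometry CategoryTheory

namespace Groth.Agent.EGA43.GrFlat.Stratify

variable {R : Type u} [CommRing R]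

/-- The stratum attached to a prime and an element. -/
def stratum (s : PrimeSpectrum R × R) : Set (PrimeSpectrum R) :=
  PrimeSpectrum.zeroLocus (s.1.asIdeal : Set R) ∩ (PrimeSpectrum.basicOpen s.2 : Set (PrimeSpectrum R))

theorem exists_list [IsNoetherianRing R] (Q : PrimeSpectrum R → R → Prop)
    (hQ : ∀ p : PrimeSpectrum R, ∃ f, f ∉ p.asIdeal ∧ ∀ g, Q p (f * g)) (I : Ideal R) :
    ∃ (m : ℕ) (s : Fin m → PrimeSpectrum R × R), (∀ i, Q (s i).1 (s i).2) ∧
      (∀ i j, i < j → stratum (s j) ⊆ PrimeSpectrum.zeroLocus {(s i).2}) ∧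
      ⋃ i, stratum (s i) = PrimeSpectrum.zeroLocus (I : Set R) := by
  classical
  induction I using IsNoetherian.induction with
  | hgt I ih =>
    by_cases hI : I = ⊤
    · refine ⟨0, Fin.elim0, fun i => i.elim0, fun i => i.elim0, ?_⟩
      subst hI
      rw [Set.iUnion_of_empty, eq_comm, PrimeSpectrum.zeroLocus_empty_iff_eq_top]
    obtain ⟨p, hp⟩ : (Ideal.minimalPrimes I).Nonempty :=
      Set.nonempty_coe_sort.1 (Ideal.nonempty_minimalPrimes hI)
    obtain ⟨f, hf, hfQ⟩ := hQ ⟨p, hp.1.1⟩
    have hfin := (Ideal.finite_minimalPrimes_of_isNoetherianRing R I)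
    let others := hfin.toFinset.erase p
    obtain ⟨g, hg, hgp⟩ : ∃ g, (∀ q ∈ others, g ∈ q) ∧ g ∉ p := by
      by_contra! h
      have hle : others.inf id ≤ p := fun g hg => h g fun q hq => Finset.inf_le (f := id) hq hg
      obtain ⟨q, hq, hqp⟩ := (hp.1.1.inf_le').1 hle
      obtain ⟨hne, hq⟩ := Finset.mem_erase.1 hq
      rw [Set.Finite.mem_toFinset] at hq
      exact hne (le_antisymm hqp (hp.2 hq.1 hqp))
    let c := f * g
    have hc : c ∉ p := hp.1.1.mul_notMem hf hgp
    have hlt : I < I ⊔ Ideal.span {c} := lt_of_le_of_ne le_sup_left fun h =>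
      hc (hp.1.2 (h.ge (Submodule.mem_sup_right (Ideal.mem_span_singleton_self c))))
    obtain ⟨m, s, hsQ, hsd, hsU⟩ := ih _ hlt
    let s₀ : PrimeSpectrum R × R := (⟨p, hp.1.1⟩, c)
    have hsub : ∀ i, stratum (s i) ⊆ PrimeSpectrum.zeroLocus {c} := fun i x hx => by
      have : x ∈ PrimeSpectrum.zeroLocus ((I ⊔ Ideal.span {c} : Ideal R) : Set R) := hsU ▸ Set.mem_iUnion.2 ⟨i, hx⟩
      exact PrimeSpectrum.zeroLocus_anti_mono (Set.singleton_subset_iff.2
        (Submodule.mem_sup_right (Ideal.mem_span_singleton_self c))) this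
    refine ⟨m + 1, Fin.cons s₀ s, Fin.cases (hfQ g) hsQ, ?_, ?_⟩
    · intro i j hij
      obtain ⟨j, rfl⟩ := Fin.exists_succ_eq_of_ne_zero (Fin.ne_zero_of_lt hij)
      induction i using Fin.cases with
      | zero => simpa using hsub j
      | succ i => simpa using hsd i j (Fin.succ_lt_succ_iff.1 hij)
    · have h0 : stratum s₀ = PrimeSpectrum.zeroLocus (I : Set R) \ PrimeSpectrum.zeroLocus {c} := by
        ext x
        simp only [stratum, s₀, Set.mem_inter_iff, Set.mem_sdiff, PrimeSpectrum.mem_zeroLocus, Set.singleton_subset_iff,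
          SetLike.coe_subset_coe, SetLike.mem_coe, PrimeSpectrum.mem_basicOpen]
        refine ⟨fun h => ⟨hp.1.2.trans h.1, h.2⟩, fun h => ⟨?_, h.2⟩⟩
        obtain ⟨q, hq, hqx⟩ := Ideal.exists_minimalPrimes_le (J := x.asIdeal) h.1
        by_contra hne
        have hqo : q ∈ others := Finset.mem_erase.2 ⟨fun e => hne (e ▸ hqx), hfin.mem_toFinset.2 hq⟩
        exact h.2 (Ideal.mul_mem_left _ f (hqx (hg q hqo)))
      rw [show (⋃ i, stratum (Fin.cons (α := fun _ => PrimeSpectrum R × R) s₀ s i)) = stratum s₀ ∪ ⋃ i, stratum (s i) by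
          ext x; simp [Fin.exists_fin_succ],
        hsU, h0, PrimeSpectrum.zeroLocus_sup, PrimeSpectrum.zeroLocus_span, Set.sdiff_union_inter]

/-- The ring of a stratum. -/
abbrev StratumRing (s : PrimeSpectrum R × R) : Type u := Localization.Away (Ideal.Quotient.mk s.1.asIdeal s.2)

theorem algebraMap_stratumRing (s : PrimeSpectrum R × R) :
    algebraMap R (StratumRing s) = (algebraMap (R ⧸ s.1.asIdeal) (StratumRing s)).comp (Ideal.Quotient.mk s.1.asIdeal) :=
  IsScalarTower.algebraMap_eq R (R ⧸ s.1.asIdeal) _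

theorem isImmersion_stratum (s : PrimeSpectrum R × R) :
    IsImmersion (Spec.map (CommRingCat.ofHom (algebraMap R (StratumRing s)))) := by
  rw [algebraMap_stratumRing, CommRingCat.ofHom_comp, Spec.map_comp]
  have := IsOpenImmersion.of_isLocalization (S := StratumRing s) (Ideal.Quotient.mk s.1.asIdeal s.2)
  have := IsClosedImmersion.spec_of_surjective (CommRingCat.ofHom (Ideal.Quotient.mk s.1.asIdeal))
    Ideal.Quotient.mk_surjective
  infer_instance

theorem range_stratum (s : PrimeSpectrum R × R) :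
    Set.range (Spec.map (CommRingCat.ofHom (algebraMap R (StratumRing s)))) = stratum s := by
  show Set.range (PrimeSpectrum.comap (algebraMap R (StratumRing s))) = stratum s
  rw [algebraMap_stratumRing, PrimeSpectrum.comap_comp, Set.range_comp,
    PrimeSpectrum.localization_away_comap_range (StratumRing s) (Ideal.Quotient.mk s.1.asIdeal s.2)]
  have h1 : (PrimeSpectrum.basicOpen (Ideal.Quotient.mk s.1.asIdeal s.2) : Set (PrimeSpectrum (R ⧸ s.1.asIdeal))) =
      PrimeSpectrum.comap (Ideal.Quotient.mk s.1.asIdeal) ⁻¹' (PrimeSpectrum.basicOpen s.2 : Set (PrimeSpectrum R)) := rfl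
  rw [h1, Set.image_preimage_eq_inter_range, _root_.range_comap_of_surjective _ _ Ideal.Quotient.mk_surjective,
    Ideal.mk_ker, Set.inter_comm]
  rfl

theorem flat_refine {M : Type u} [AddCommGroup M] [Module R M] (p : PrimeSpectrum R) (f g : R)
    [Module.Flat (StratumRing (p, f)) (StratumRing (p, f) ⊗[R] M)] :
    Module.Flat (StratumRing (p, f * g)) (StratumRing (p, f * g) ⊗[R] M) := by
  let A := StratumRing (p, f)
  let A' := StratumRing (p, f * g)
  have hu : IsUnit (algebraMap (R ⧸ p.asIdeal) A' (Ideal.Quotient.mk p.asIdeal f)) :=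
    isUnit_of_mul_isUnit_left (y := algebraMap (R ⧸ p.asIdeal) A' (Ideal.Quotient.mk p.asIdeal g)) <| by
      rw [← map_mul, ← map_mul]
      exact IsLocalization.Away.algebraMap_isUnit (S := A') (Ideal.Quotient.mk p.asIdeal (f * g))
  let _ : Algebra A A' := (IsLocalization.Away.lift (Ideal.Quotient.mk p.asIdeal f) hu).toAlgebra
  have : IsScalarTower R A A' := .of_algebraMap_eq fun x => by
    rw [RingHom.algebraMap_toAlgebra, IsScalarTower.algebraMap_apply R (R ⧸ p.asIdeal) A,
      IsScalarTower.algebraMap_apply R (R ⧸ p.asIdeal) A', IsLocalization.Away.lift_eq]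
  exact Module.Flat.of_linearEquiv (AlgebraTensorModule.cancelBaseChange R A A' A' M).symm

section Flat

variable {A B M : Type u} [CommRing A] [Algebra R A] [CommRing B] [AddCommGroup M] [Module B M] [Module R M]
  [Algebra R B] [IsScalarTower R B M]

/-- A graded piece of the base change of a filtration is flat if the truncations are. -/
theorem flat_piece {N N' : Submodule B M} (hle : N' ≤ N)
    [Module.Flat A (A ⊗[R] (M ⧸ N))] [Module.Flat A (A ⊗[R] (M ⧸ N'))] :
    Module.Flat A ↥(Submodule.map (LinearMap.range (LinearMap.baseChange A (N'.restrictScalars R).subtype)).mkQ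
      (LinearMap.range (LinearMap.baseChange A (N.restrictScalars R).subtype))) := by
  let rg : Submodule B M → Submodule A (A ⊗[R] M) := fun N =>
    LinearMap.range (LinearMap.baseChange A (N.restrictScalars R).subtype)
  let q : ∀ N : Submodule B M, A ⊗[R] M →ₗ[A] A ⊗[R] (M ⧸ N) := fun N =>
    LinearMap.baseChange A (N.mkQ.restrictScalars R)
  have hker : ∀ N : Submodule B M, LinearMap.ker (q N) = rg N := fun N => by
    refine LinearMap.exact_iff.1 ?_
    show Exact (LinearMap.baseChange A (N.restrictScalars R).subtype) (q N)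
    refine lTensor_exact A (f := (N.restrictScalars R).subtype) (g := N.mkQ.restrictScalars R) ?_
      N.mkQ_surjective
    exact LinearMap.exact_subtype_mkQ N
  have hsurj : ∀ N : Submodule B M, Surjective (q N) := fun N =>
    LinearMap.lTensor_surjective A (g := N.mkQ.restrictScalars R) N.mkQ_surjective
  have e : ∀ N : Submodule B M, Nonempty (((A ⊗[R] M) ⧸ rg N) ≃ₗ[A] A ⊗[R] (M ⧸ N)) := fun N =>
    ⟨(Submodule.quotEquivOfEq _ _ (hker N).symm).trans (LinearMap.quotKerEquivOfSurjective _ (hsurj N))⟩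
  obtain ⟨e₁⟩ := e N'
  obtain ⟨e₂⟩ := e N
  have : Module.Flat A ((A ⊗[R] M) ⧸ rg N') := Module.Flat.of_linearEquiv e₁
  have : Module.Flat A ((A ⊗[R] M) ⧸ rg N) := Module.Flat.of_linearEquiv e₂
  have hrg : rg N' ≤ rg N := by
    rintro _ ⟨x, rfl⟩
    refine ⟨LinearMap.baseChange A ((Submodule.inclusion hle).restrictScalars R) x, ?_⟩
    induction x using TensorProduct.induction_on with
    | zero => simp
    | add x y hx hy => simp only [map_add, hx, hy]
    | tmul a m => rfl
  have hk : LinearMap.ker (Submodule.factor hrg) = (rg N).map (rg N').mkQ := by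
    rw [Submodule.factor, Submodule.ker_mapQ, Submodule.comap_id]
  exact hk ▸ GrFlat.flat_ker (Submodule.factor hrg) (Submodule.factor_surjective hrg)

end Flat

/-- Affine stratification of a Noetherian base with flat graded pieces. -/
theorem exists_stratification [IsNoetherianRing R] {B : Type u} [CommRing B] [Algebra R B] [Algebra.FiniteType R B]
    (J : Ideal B) (M : Type u) [AddCommGroup M] [Module B M] [Module R M] [IsScalarTower R B M] [Module.Finite B M] :
    ∃ (m : ℕ) (s : Fin m → PrimeSpectrum R × R),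
      (∀ i j, i < j → stratum (s j) ⊆ PrimeSpectrum.zeroLocus {(s i).2}) ∧ ⋃ i, stratum (s i) = Set.univ ∧
      ∀ i k, Module.Flat (StratumRing (s i)) (StratumRing (s i) ⊗[R] (M ⧸ (J ^ k • (⊤ : Submodule B M)))) := by
  have : IsNoetherianRing B := Algebra.FiniteType.isNoetherianRing R B
  obtain ⟨r, f, hf⟩ := Submodule.fg_iff_exists_fin_generating_family.1 (IsNoetherian.noetherian J)
  subst hf
  have : Algebra.FiniteType R (MvPolynomial (Fin r) B) := Algebra.FiniteType.trans ‹_› inferInstance
  obtain ⟨m, s, hQ, hd, hU⟩ := exists_list (fun p c => ∀ k, Module.Flat (StratumRing (p, c))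
      (StratumRing (p, c) ⊗[R] (M ⧸ (Ideal.span (Set.range f) ^ k • (⊤ : Submodule B M))))) (fun p => by
    obtain ⟨c, hc, hfl⟩ := exists_flat_stratum (Filt.sys (R := R) f M) p.asIdeal
    refine ⟨c, hc, fun g k => ?_⟩
    have : Module.Flat (StratumRing (p, c))
        (StratumRing (p, c) ⊗[R] (M ⧸ (Ideal.span (Set.range f) ^ k • (⊤ : Submodule B M)))) := hfl k
    exact flat_refine p c g) ⊥
  exact ⟨m, s, hd, hU.trans (by simp), fun i k => hQ i k⟩

end Groth.Agent.EGA43.GrFlat.Stratify
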