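import Groth.Agent.EGA43.GrFlat.Decomp
import Groth.Agent.EGA43.InjFibre.InjStage

/-!
# Graded systems and their base change
-/

universe u

set_option autoImplicit false
set_option backward.isDefEq.respectTransparency false

open TensorProduct Function

namespace Groth.Agent.EGA43.GrFlat

attribute [local instance] FlatDescent.bcModule

variable {R : Type u} [CommRing R] {B C : Type u} [CommRing B] [CommRing C] [Algebra R B] [Algebra R C]
  {T : ℕ → Type u} [∀ k, AddCommGroup (T k)] [∀ k, Module R (T k)] [∀ k, Module B (T k)]
  [∀ k, IsScalarTower R B (T k)]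
  {E : Type u} [AddCommGroup E] [Module R E] [Module C E] [IsScalarTower R C E]

/-- `X` is the associated graded part, seen as a module over the big algebra `C`. -/
structure Sys (p : ∀ k, T (k + 1) →ₗ[B] T k) (c : ∀ k, E →ₗ[R] T (k + 1))
    (s : ∀ k, T (k + 1) →ₗ[R] E) (X : Submodule C E) : Prop where
  decomp : Decomp c s
  surj : ∀ k, Surjective (p k)
  mem : ∀ x, x ∈ X ↔ ∀ k, p k (c k x) = 0

variable {p : ∀ k, T (k + 1) →ₗ[B] T k} {c : ∀ k, E →ₗ[R] T (k + 1)}
    {s : ∀ k, T (k + 1) →ₗ[R] E} {X : Submodule C E} (h : Sys p c s X)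

/-- The `R`-linear transition maps. -/
abbrev pR (p : ∀ k, T (k + 1) →ₗ[B] T k) (k : ℕ) : T (k + 1) →ₗ[R] T k := (p k).restrictScalars R

/-- The associated graded part after base change. -/
abbrev grBC (p : ∀ k, T (k + 1) →ₗ[B] T k) (c : ∀ k, E →ₗ[R] T (k + 1)) (S : Type u) [CommRing S]
    [Algebra R S] : Submodule S (S ⊗[R] E) :=
  gr (T := fun k => S ⊗[R] T k) (fun k => (pR (R := R) p k).baseChange S) fun k => (c k).baseChange S

include h in
theorem Sys.restrictScalars_eq : X.restrictScalars R = gr (pR p) c :=
  Submodule.ext fun x => by simp [h.mem, mem_gr]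

/-- `X` and the graded part. -/
noncomputable def Sys.equivGr : X ≃ₗ[R] gr (pR (R := R) p) c :=
  (X.restrictScalarsEquiv R).symm.restrictScalars R ≪≫ₗ LinearEquiv.ofEq _ _ h.restrictScalars_eq

include h in
theorem Sys.range_bcMap (S : Type u) [CommRing S] [Algebra R S] :
    (LinearMap.range (InjFibre.bcMap R S X.subtype)).restrictScalars S = grBC p c S := by
  refine le_antisymm ?_ fun z hz => ?_
  · rintro _ ⟨w, rfl⟩
    rw [mem_gr]
    intro k
    induction w using TensorProduct.induction_on with
    | zero => simp
    | add a b ha hb => simp only [map_add, ha, hb, add_zero]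
    | tmul a x => simp [(h.mem x.1).1 x.2 k]
  · obtain ⟨F, hF⟩ := (h.decomp.baseChange S).sum z
    rw [hF]
    refine Submodule.sum_mem _ fun k _ => ?_
    have hz' : (pR (R := R) p k).lTensor S ((c k).baseChange S z) = 0 := (mem_gr _ _).1 hz k
    have hex : Exact ((LinearMap.ker (pR (R := R) p k)).subtype.lTensor S) ((pR (R := R) p k).lTensor S) :=
      lTensor_exact (M := ↥(LinearMap.ker (pR (R := R) p k))) S (LinearMap.exact_subtype_ker_map _) (h.surj k)
    obtain ⟨w, hw⟩ := (hex _).1 hz'
    rw [← hw]
    clear hw hz'
    induction w using TensorProduct.induction_on with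
    | zero => simp
    | add a b ha hb => rw [map_add, map_add]; exact add_mem ha hb
    | tmul a y =>
      rw [LinearMap.lTensor_tmul, LinearMap.baseChange_tmul]
      exact ⟨a ⊗ₜ ⟨s k y.1, (h.mem _).2 ((mem_gr _ _).1 (h.decomp.section_mem_gr (pR (R := R) p)
        (LinearMap.mem_ker.1 y.2)))⟩, rfl⟩

include h in
/-- Base change of a system. -/
theorem Sys.baseChange (S : Type u) [CommRing S] [Algebra R S] :
    Sys (T := fun k => S ⊗[R] T k) (fun k => InjFibre.bcMap R S (p k)) (fun k => (c k).baseChange S)
      (fun k => (s k).baseChange S) (LinearMap.range (InjFibre.bcMap R S X.subtype)) where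
  decomp := h.decomp.baseChange S
  surj k := LinearMap.lTensor_surjective S (h.surj k)
  mem z := by
    rw [← Submodule.restrictScalars_mem S, h.range_bcMap, mem_gr]
    rfl

/-- Kernels of surjections onto modules that are flat over an intermediate ring. -/
theorem lTensor_ker_injective_of_tower {A M N : Type u} [CommRing A] [Algebra R A]
    [AddCommGroup M] [Module R M] [Module A M] [IsScalarTower R A M]
    [AddCommGroup N] [Module R N] [Module A N] [IsScalarTower R A N]
    (f : M →ₗ[A] N) (hf : Surjective f) [Module.Flat A N] (V : Type u) [AddCommGroup V] [Module R V] :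
    Injective (((LinearMap.ker f).subtype.restrictScalars R).lTensor V) := by
  let Φ : ∀ (Z : Type u) [AddCommGroup Z] [Module R Z] [Module A Z] [IsScalarTower R A Z],
      (A ⊗[R] V) ⊗[A] Z ≃+ V ⊗[R] Z := fun Z _ _ _ _ =>
    ((TensorProduct.comm A (A ⊗[R] V) Z).toAddEquiv.trans
      (AlgebraTensorModule.cancelBaseChange R A A Z V).toAddEquiv).trans
      (TensorProduct.comm R Z V).toAddEquiv
  have hnat : ∀ x, ((LinearMap.ker f).subtype.restrictScalars R).lTensor V (Φ _ x) =
      Φ M ((LinearMap.ker f).subtype.lTensor (A ⊗[R] V) x) := fun x => by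
    induction x using TensorProduct.induction_on with
    | zero => simp
    | add a b ha hb => simp only [map_add, ha, hb]
    | tmul t m =>
      induction t using TensorProduct.induction_on with
      | zero => simp
      | add a b ha hb => simp only [add_tmul, map_add, ha, hb]
      | tmul a v => simp [Φ]
  have := lTensor_ker_injective f hf (A ⊗[R] V)
  intro x y hxy
  obtain ⟨x, rfl⟩ := (Φ _).surjective x
  obtain ⟨y, rfl⟩ := (Φ _).surjective y
  rw [hnat, hnat] at hxy
  exact congrArg _ (this ((Φ M).injective hxy))

include h in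
/-- If all the pieces become flat over `A`, the graded part over `A` is universally injective. -/
theorem Sys.lTensor_grBC_injective (A : Type u) [CommRing A] [Algebra R A]
    [∀ k, Module.Flat A (A ⊗[R] T k)] (V : Type u) [AddCommGroup V] [Module R V] :
    Injective (((grBC p c A).subtype.restrictScalars R).lTensor V) := by
  let D := h.decomp.baseChange A
  let e : gr (R := R) (T := fun k => A ⊗[R] T k) (fun k => ((pR (R := R) p k).baseChange A).restrictScalars R)
      (fun k => ((c k).baseChange A).restrictScalars R) ≃ₗ[R] grBC p c A :=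
    LinearEquiv.ofEq _ ((grBC p c A).restrictScalars R) (Submodule.ext fun x => by simp [mem_gr]) ≪≫ₗ
      ((grBC p c A).restrictScalarsEquiv R).restrictScalars R
  have D' : Decomp (R := R) (T := fun k => A ⊗[R] T k) (fun k => ((c k).baseChange A).restrictScalars R)
      (fun k => ((s k).baseChange A).restrictScalars R) := ⟨D.self, D.ne, D.sum⟩
  have hinj := lTensor_subtype_injective (R := R) (T := fun k => A ⊗[R] T k)
    (fun k => ((pR (R := R) p k).baseChange A).restrictScalars R) D' V fun k =>
      lTensor_ker_injective_of_tower ((pR (R := R) p k).baseChange A) (LinearMap.lTensor_surjective A (h.surj k)) V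
  intro x y hxy
  obtain ⟨x, rfl⟩ := (LinearEquiv.lTensor V e).surjective x
  obtain ⟨y, rfl⟩ := (LinearEquiv.lTensor V e).surjective y
  refine congrArg _ (hinj ?_)
  rw [← LinearEquiv.coe_coe, LinearEquiv.coe_lTensor, ← LinearMap.lTensor_comp_apply,
    ← LinearMap.lTensor_comp_apply] at hxy
  exact hxy

end Groth.Agent.EGA43.GrFlat
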